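import Mathlib
import Cfsg.Agent.PLocal.Cores

/-!
# Groups without proper subgroups of mixed order: elementary lemmas
-/

namespace CfsgLib.FgsSix.MixedOrder

open scoped Pointwise

variable {G : Type*} [Group G] {p : ℕ}

/-- The order of `x` is a power of `p`. -/
def PEl (p : ℕ) (x : G) : Prop := ∃ k, orderOf x = p ^ k

theorem PEl.isPGroup [Fact p.Prime] {x : G} (hx : PEl p x) : IsPGroup p ↥(Subgroup.zpowers x) := by
  obtain ⟨k, hk⟩ := hx
  exact IsPGroup.of_card (n := k) (by rw [Nat.card_zpowers, hk])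

theorem PEl.of_mem [Fact p.Prime] [Finite G] {A : Subgroup G} (hA : IsPGroup p A) {x : G} (hx : x ∈ A) :
    PEl p x := by
  obtain ⟨k, hk⟩ := IsPGroup.iff_orderOf.1 hA ⟨x, hx⟩
  exact ⟨k, by rwa [Subgroup.orderOf_mk] at hk⟩

theorem PEl.conj {x : G} (hx : PEl p x) (g : G) : PEl p (g * x * g⁻¹) := by
  obtain ⟨k, hk⟩ := hx
  exact ⟨k, by rw [← hk]; exact orderOf_injective (MulAut.conj g).toMonoidHom (MulAut.conj g).injective x⟩

theorem PEl.mem_sylow [Fact p.Prime] [Finite G] (P : Sylow p G) {x : G} (hx : PEl p x)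
    (h : x ∈ Subgroup.normalizer ((P : Subgroup G) : Set G)) : x ∈ (P : Subgroup G) := by
  have hs := IsPGroup.to_sup_of_normal_right' hx.isPGroup P.isPGroup' (Subgroup.zpowers_le.2 h)
  exact (P.is_maximal' hs le_sup_right) ▸ Subgroup.mem_sup_left (Subgroup.mem_zpowers x)

/-- A `p`-subgroup normalizing a Sylow subgroup is contained in it. -/
theorem le_sylow_of_le_normalizer [Fact p.Prime] [Finite G] (P : Sylow p G) {A : Subgroup G}
    (hA : IsPGroup p A) (h : A ≤ Subgroup.normalizer ((P : Subgroup G) : Set G)) : A ≤ P :=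
  fun _ hx => (PEl.of_mem hA hx).mem_sylow P (h hx)

theorem eq_one_of_pel_pel [Finite G] {q : ℕ} (hp : p.Prime) (hq : q.Prime) (hpq : p ≠ q) {x : G}
    (hx : PEl p x) (hy : PEl q x) : x = 1 := by
  obtain ⟨k, hk⟩ := hx
  obtain ⟨l, hl⟩ := hy
  refine orderOf_eq_one_iff.1 (Nat.eq_one_of_dvd_coprimes
    (((Nat.coprime_primes hp hq).2 hpq).pow k l) (hk ▸ dvd_rfl) (hl ▸ dvd_rfl))

/-- The order of a join with a normalized subgroup divides the product of the orders. -/
theorem card_sup_dvd [Finite G] {H N : Subgroup G} (h : H ≤ Subgroup.normalizer (N : Set G)) :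
    Nat.card ↥(H ⊔ N) ∣ Nat.card ↥H * Nat.card ↥N := by
  set L := H ⊔ N with hL
  have hH : H ≤ L := le_sup_left
  have hN : N ≤ L := le_sup_right
  have : (N.subgroupOf L).Normal :=
    (Subgroup.normal_subgroupOf_iff_le_normalizer hN).2 (sup_le h Subgroup.le_normalizer)
  have htop : H.subgroupOf L ⊔ N.subgroupOf L = ⊤ := by
    rw [← (Subgroup.map_injective L.subtype_injective).eq_iff, Subgroup.map_sup,
      Subgroup.map_subgroupOf_eq_of_le hH, Subgroup.map_subgroupOf_eq_of_le hN,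
      ← MonoidHom.range_eq_map, Subgroup.range_subtype]
  have h1 := CfsgLib.PLocal.card_sup_dvd_mul (H.subgroupOf L) (N.subgroupOf L)
  rwa [htop, Subgroup.card_top, Nat.card_congr (Subgroup.subgroupOfEquivOfLe hH).toEquiv,
    Nat.card_congr (Subgroup.subgroupOfEquivOfLe hN).toEquiv] at h1

/-- The conjugates of `t` by the powers of `x`. -/
def powOrbit (x t : G) : Set G := {u | ∃ i : ℤ, u = x ^ i * t * (x ^ i)⁻¹}

theorem ncard_powOrbit [Fact p.Prime] [Finite G] {x t : G} (hx : PEl p x) (hne : x * t ≠ t * x) :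
    p ≤ (powOrbit x t).ncard := by
  let _ : MulAction ↥(Subgroup.zpowers x) G :=
    MulAction.compHom G ((MulAut.conj (G := G)).comp (Subgroup.zpowers x).subtype)
  have hsmul : ∀ (g : ↥(Subgroup.zpowers x)) (u : G), g • u = (g : G) * u * (g : G)⁻¹ := fun g u => rfl
  have horb : MulAction.orbit ↥(Subgroup.zpowers x) t = powOrbit x t := by
    ext u
    constructor
    · rintro ⟨⟨g, hg⟩, rfl⟩
      obtain ⟨i, rfl⟩ := Subgroup.mem_zpowers_iff.1 hg
      exact ⟨i, rfl⟩
    · rintro ⟨i, rfl⟩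
      exact ⟨⟨x ^ i, Subgroup.zpow_mem_zpowers x i⟩, rfl⟩
  obtain ⟨n, hn⟩ := hx.isPGroup.card_orbit t
  have hn' : (powOrbit x t).ncard = p ^ n := by
    rw [← horb, ← Nat.card_coe_set_eq]; exact hn
  have hn0 : n ≠ 0 := by
    rintro rfl
    obtain ⟨a, ha⟩ := Set.ncard_eq_one.1 (hn'.trans (pow_zero p))
    have h1 : t ∈ powOrbit x t := ⟨0, by simp⟩
    have h2 : x * t * x⁻¹ ∈ powOrbit x t := ⟨1, by simp⟩
    rw [ha, Set.mem_singleton_iff] at h1 h2
    exact hne (mul_inv_eq_iff_eq_mul.1 (h2.trans h1.symm))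
  exact hn' ▸ Nat.le_self_pow hn0 p

theorem powOrbit_subset [Finite G] {Q₀ : Subgroup G} {x t : G} (hxN : x ∈ Subgroup.normalizer (Q₀ : Set G))
    (ht : t ∈ Q₀) (ht1 : t ≠ 1) : powOrbit x t ⊆ (Q₀ : Set G) \ {1} := by
  rintro u ⟨i, rfl⟩
  refine ⟨(Subgroup.mem_normalizer_iff.1 (Subgroup.zpow_mem _ hxN i) t).1 ht, ?_⟩
  rw [Set.mem_singleton_iff, mul_inv_eq_one, mul_eq_left]
  exact ht1

theorem commute_of_mem_powOrbit {x t u : G} (hu : u ∈ powOrbit x t) (h : x * u = u * x) :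
    x * t = t * x := by
  obtain ⟨i, rfl⟩ := hu
  have h1 : Commute x (x ^ i * t * (x ^ i)⁻¹) := h
  have h2 : Commute x (x ^ i) := (Commute.refl x).zpow_right i
  have h3 := ((h2.inv_right).mul_right h1).mul_right h2
  simpa [mul_assoc] using h3.eq

/-- A `p`-element normalizing a subgroup of order at most `p` centralizes it. -/
theorem commute_of_card_le [Fact p.Prime] [Finite G] {Q₀ : Subgroup G} {x t : G} (hx : PEl p x)
    (hxN : x ∈ Subgroup.normalizer (Q₀ : Set G)) (hle : Nat.card ↥Q₀ ≤ p) (ht : t ∈ Q₀) :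
    x * t = t * x := by
  by_contra hne
  have ht1 : t ≠ 1 := fun h => hne (by simp [h])
  have h1 := (ncard_powOrbit hx hne).trans (Set.ncard_le_ncard (powOrbit_subset hxN ht ht1))
  rw [Set.ncard_sdiff_singleton_of_mem (show (1 : G) ∈ (Q₀ : Set G) from Q₀.one_mem),
    ← Nat.card_coe_set_eq, SetLike.coe_sort_coe] at h1
  have := (Fact.out : p.Prime).two_le
  omega

/-- A `p`-element acting nontrivially on a group of order `p + 1` fixes no nonidentity element
and permutes them transitively. -/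
theorem transitive_of_card_eq [Fact p.Prime] [Finite G] {Q₀ : Subgroup G} {x t : G} (hx : PEl p x)
    (hxN : x ∈ Subgroup.normalizer (Q₀ : Set G)) (hle : Nat.card ↥Q₀ = p + 1) (ht : t ∈ Q₀)
    (hne : x * t ≠ t * x) :
    powOrbit x t = (Q₀ : Set G) \ {1} ∧ ∀ u ∈ Q₀, u ≠ 1 → x * u ≠ u * x := by
  have ht1 : t ≠ 1 := fun h => hne (by simp [h])
  have heq : powOrbit x t = (Q₀ : Set G) \ {1} := by
    refine Set.eq_of_subset_of_ncard_le (powOrbit_subset hxN ht ht1) ?_
    rw [Set.ncard_sdiff_singleton_of_mem (show (1 : G) ∈ (Q₀ : Set G) from Q₀.one_mem),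
      ← Nat.card_coe_set_eq, SetLike.coe_sort_coe, hle, Nat.add_sub_cancel]
    exact ncard_powOrbit hx hne
  exact ⟨heq, fun u hu hu1 h => hne (commute_of_mem_powOrbit (heq ▸ ⟨hu, hu1⟩) h)⟩

end CfsgLib.FgsSix.MixedOrder
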