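import Mathlib
import Cfsg.Agent.FgsSix.MixedOrder.Basic
import Cfsg.Agent.PLocal.PSolvable
import Cfsg.Agent.Characters.Burnside

/-!
# The configuration `p = 2 ^ a - 1` with abelian Sylow subgroups
-/

namespace CfsgLib.FgsSix.MixedOrder

open Cfsg (pCore pPrimeCore)

/-- The configuration left over in the study of groups without subgroups of mixed order. -/
structure Conf (G : Type*) [Group G] (p : ℕ) : Prop where
  hp : p.Prime
  hp2 : p ≠ 2
  dvd : p ∣ Nat.card G
  two_dvd : 2 ∣ Nat.card G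
  proper_two : ∀ H : Subgroup G, H ≠ ⊤ → 2 ∣ Nat.card ↥H →
    ∀ r : ℕ, r.Prime → r ∣ Nat.card ↥H → r = p ∨ r = 2
  inverted : ∀ t g : G, orderOf t = 2 → t * g * t⁻¹ = g⁻¹ →
    ∀ r : ℕ, r.Prime → r ∣ orderOf g → r = p ∨ r = 2
  abelian : ∀ A : Subgroup G, IsPGroup p ↥A → ∀ a ∈ A, ∀ b ∈ A, a * b = b * a
  no_normal_p : ∀ W : Subgroup G, W.Normal → IsPGroup p ↥W → W = ⊥
  no_normal_two : ∀ W : Subgroup G, W.Normal → IsPGroup 2 ↥W → W = ⊥
  card_two : ∀ Q : Sylow 2 G, Nat.card ↥(Q : Subgroup G) = p + 1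
  commute_two : ∀ A : Subgroup G, IsPGroup 2 ↥A → ∀ a ∈ A, ∀ b ∈ A, a * b = b * a
  sq_two : ∀ a : G, PEl 2 a → a * a = 1
  centralize_small : ∀ A : Subgroup G, IsPGroup 2 ↥A → Nat.card ↥A ≠ p + 1 → ∀ x : G, PEl p x →
    x ∈ Subgroup.normalizer (A : Set G) → ∀ a ∈ A, x * a = a * x
  acts : ∀ Q : Sylow 2 G, ∃ x : G, PEl p x ∧ x ∈ Subgroup.normalizer ((Q : Subgroup G) : Set G) ∧
    ∀ t ∈ (Q : Subgroup G), t ≠ 1 → x * t ≠ t * x

namespace Conf

variable {G : Type*} [Group G] [Finite G] {p : ℕ} (C : Conf G p)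

include C

theorem pel_sq_eq_one {g : G} (hg : PEl p g) (h : g * g = 1) : g = 1 := by
  obtain ⟨k, hk⟩ := hg
  have h1 : orderOf g ∣ 2 := orderOf_dvd_of_pow_eq_one (by rw [pow_two, h])
  refine orderOf_eq_one_iff.1 (Nat.eq_one_of_dvd_coprimes
    (((Nat.coprime_primes C.hp Nat.prime_two).2 C.hp2).pow_left k) (hk ▸ dvd_rfl) h1)

theorem inv_eq {t : G} (ht : orderOf t = 2) : t⁻¹ = t :=
  inv_eq_of_mul_eq_one_right (by rw [← pow_two, ← ht, pow_orderOf_eq_one])

theorem ne_one {t : G} (ht : orderOf t = 2) : t ≠ 1 := fun h => by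
  rw [h, orderOf_one] at ht
  omega

theorem orderOf_two {a : G} (ha : PEl 2 a) (h1 : a ≠ 1) : orderOf a = 2 :=
  orderOf_eq_prime (by rw [pow_two, C.sq_two a ha]) h1

theorem exists_sylow_two {A : Subgroup G} (hA : IsPGroup 2 ↥A) : ∃ Q : Sylow 2 G, A ≤ Q :=
  hA.exists_le_sylow

/-- A `p`-element normalizing a Sylow 2-subgroup and fixing a nonidentity element centralizes it. -/
theorem centralizes {Q : Sylow 2 G} {x : G} (hx : PEl p x)
    (hxN : x ∈ Subgroup.normalizer ((Q : Subgroup G) : Set G)) {t : G} (ht : t ∈ (Q : Subgroup G))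
    (ht1 : t ≠ 1) (hc : x * t = t * x) : ∀ u ∈ (Q : Subgroup G), x * u = u * x := by
  have := Fact.mk C.hp
  intro u hu
  by_contra hne
  exact (transitive_of_card_eq hx hxN (C.card_two Q) hu hne).2 t ht ht1 hc

/-- An element of a normalized `p`-subgroup commutes with a 2-subgroup normalized by it. -/
theorem commute_of_disjoint {P Q : Subgroup G} (hP : IsPGroup p ↥P) (hQ : IsPGroup 2 ↥Q) {x g : G}
    (hx : x ∈ P) (hxN : x ∈ Subgroup.normalizer (Q : Set G)) (hg : g ∈ Q)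
    (hgN : g ∈ Subgroup.normalizer (P : Set G)) : x * g = g * x := by
  have := Fact.mk C.hp
  have h1 : x * g * x⁻¹ * g⁻¹ ∈ Q :=
    Q.mul_mem ((Subgroup.mem_normalizer_iff.1 hxN g).1 hg) (Q.inv_mem hg)
  have h2 : x * g * x⁻¹ * g⁻¹ ∈ P := by
    rw [show x * g * x⁻¹ * g⁻¹ = x * (g * x⁻¹ * g⁻¹) by group]
    exact P.mul_mem hx ((Subgroup.mem_normalizer_iff.1 hgN _).1 (P.inv_mem hx))
  have h3 := eq_one_of_pel_pel C.hp Nat.prime_two C.hp2 (PEl.of_mem hP h2) (PEl.of_mem hQ h1)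
  rw [mul_inv_eq_one, mul_inv_eq_iff_eq_mul] at h3
  exact h3

theorem centralizer_ne_top {g : G} (hg1 : g ≠ 1) (hg : PEl p g ∨ PEl 2 g) :
    Subgroup.centralizer ({g} : Set G) ≠ ⊤ := by
  have := Fact.mk C.hp
  intro h
  have hn : (Subgroup.zpowers g).Normal := Subgroup.Normal.mk fun n hn a => by
    have ha : a ∈ Subgroup.centralizer ({g} : Set G) := h ▸ Subgroup.mem_top a
    rw [Subgroup.mem_centralizer_singleton_iff] at ha
    obtain ⟨i, rfl⟩ := Subgroup.mem_zpowers_iff.1 hn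
    rw [(Commute.zpow_right ha i).eq, mul_inv_cancel_right]
    exact Subgroup.zpow_mem_zpowers g i
  refine hg1 (Subgroup.zpowers_eq_bot.1 ?_)
  rcases hg with hg | hg
  · exact C.no_normal_p _ hn hg.isPGroup
  · exact C.no_normal_two _ hn hg.isPGroup

theorem two_dvd_of_mem {K : Subgroup G} {t : G} (ht : orderOf t = 2) (h : t ∈ K) : 2 ∣ Nat.card ↥K :=
  ht ▸ Subgroup.orderOf_dvd_natCard K h

theorem card_dvd_pow {K : Subgroup G} (hK : K ≠ ⊤) (h2 : 2 ∣ Nat.card ↥K) :
    ∃ a b, Nat.card ↥K ∣ p ^ a * 2 ^ b := by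
  refine ⟨(Nat.card ↥K).factorization p, (Nat.card ↥K).factorization 2, ?_⟩
  rw [← Nat.factorization_prime_le_iff_dvd Nat.card_pos.ne'
    (mul_ne_zero (pow_ne_zero _ C.hp.ne_zero) (pow_ne_zero _ two_ne_zero))]
  intro r hr
  by_cases hrK : r ∣ Nat.card ↥K
  · rw [Nat.factorization_mul (pow_ne_zero _ C.hp.ne_zero) (pow_ne_zero _ two_ne_zero),
      C.hp.factorization_pow, Nat.prime_two.factorization_pow, Finsupp.add_apply]
    rcases C.proper_two K hK h2 r hr hrK with rfl | rfl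
    · simp
    · simp
  · simp [Nat.factorization_eq_zero_of_not_dvd hrK]

/-- A proper subgroup of even order containing a Sylow `p`-subgroup normalizes it or a Sylow 2-subgroup. -/
theorem le_normalizer_cases [Fact p.Prime] (K : Subgroup G) (hK : K ≠ ⊤) (h2 : 2 ∣ Nat.card ↥K)
    (P : Sylow p G) (hPK : (P : Subgroup G) ≤ K) :
    K ≤ Subgroup.normalizer ((P : Subgroup G) : Set G) ∨
      ∃ Q : Sylow 2 G, K ≤ Subgroup.normalizer ((Q : Subgroup G) : Set G) := by
  obtain ⟨a, b, hd⟩ := C.card_dvd_pow hK h2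
  have hsol : Group.IsSolvable ↥K :=
    CfsgLib.Characters.isSolvable_of_card_eq_primePow_mul p 2 a b C.hp Nat.prime_two hd
  set W := pPrimeCore p ↥K with hW
  have hW2 : IsPGroup 2 ↥W := by
    have hc := CfsgLib.PLocal.coprime_card_pPrimeCore p ↥K
    have hd2 : Nat.card ↥W ∣ 2 ^ b :=
      (Nat.Coprime.pow_right a hc).dvd_of_dvd_mul_left ((Subgroup.card_subgroup_dvd_card W).trans hd)
    obtain ⟨i, -, hi⟩ := (Nat.dvd_prime_pow Nat.prime_two).1 hd2
    exact IsPGroup.of_card hi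
  set A := W.map K.subtype with hA
  have hAp : IsPGroup 2 ↥A := hW2.map _
  have hWn : W.Normal := inferInstance
  have hAK : K ≤ Subgroup.normalizer (A : Set G) := by
    intro k hk
    rw [Subgroup.mem_normalizer_iff]
    intro g
    constructor
    · rintro ⟨w, hw, rfl⟩
      exact ⟨⟨k, hk⟩ * w * ⟨k, hk⟩⁻¹, hWn.conj_mem w hw _, rfl⟩
    · rintro ⟨w, hw, he⟩
      refine ⟨⟨k, hk⟩⁻¹ * w * ⟨k, hk⟩, hWn.conj_mem' w hw _, ?_⟩
      have : (w : G) = k * g * k⁻¹ := he
      simp [this, mul_assoc]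
  by_cases hcard : Nat.card ↥A = p + 1
  · obtain ⟨Q, hQ⟩ := C.exists_sylow_two hAp
    have hQA : A = Q := Subgroup.eq_of_le_of_card_ge hQ (by rw [hcard, C.card_two Q])
    exact Or.inr ⟨Q, hQA ▸ hAK⟩
  left
  have hcen : ∀ x ∈ (P : Subgroup G), ∀ a ∈ A, x * a = a * x := fun x hx =>
    C.centralize_small A hAp hcard x (PEl.of_mem P.isPGroup' hx) (hAK (hPK hx))
  have hps : Cfsg.IsPSolvable p (↥K ⧸ W) :=
    CfsgLib.PLocal.isPSolvable_quotient CfsgLib.PLocal.isPSolvable_of_isSolvable W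
  have hO : pPrimeCore p (↥K ⧸ W) = ⊥ := CfsgLib.PLocal.pPrimeCore_quotient_pPrimeCore_eq_bot p ↥K
  have hHH := CfsgLib.PLocal.centralizer_pCore_le_of_isPSolvable
    (CfsgLib.PLocal.isPSolvable_subgroup hps _) hO
  set PK : Sylow p ↥K := P.subtype hPK with hPKdef
  set π := QuotientGroup.mk' W
  set P' : Sylow p (↥K ⧸ W) := PK.mapSurjective (QuotientGroup.mk'_surjective W)
  have hP'e : (P' : Subgroup (↥K ⧸ W)) = pCore p (↥K ⧸ W) := by
    refine le_antisymm ?_ (CfsgLib.PLocal.pCore_le_sylow P')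
    intro x hx
    refine hHH (fun y hy => ?_)
    have hy' := CfsgLib.PLocal.pCore_le_sylow P' hy
    rw [Sylow.coe_mapSurjective] at hx hy'
    obtain ⟨a, ha, rfl⟩ := hx
    obtain ⟨c, hc, rfl⟩ := hy'
    rw [← map_mul, ← map_mul]
    congr 1
    exact Subtype.ext (C.abelian _ P.isPGroup' _ hc _ ha)
  have hP'n : (P' : Subgroup (↥K ⧸ W)).Normal := hP'e ▸ inferInstance
  intro k hk
  have key : ∀ k ∈ K, ∀ g ∈ (P : Subgroup G), k * g * k⁻¹ ∈ (P : Subgroup G) := by
    intro k hk g hg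
    have hmem : π ⟨g, hPK hg⟩ ∈ (P' : Subgroup (↥K ⧸ W)) := by
      rw [Sylow.coe_mapSurjective]
      exact Subgroup.mem_map_of_mem _ hg
    have h1 := hP'n.conj_mem _ hmem (π ⟨k, hk⟩)
    rw [Sylow.coe_mapSurjective, ← map_inv, ← map_mul, ← map_mul] at h1
    obtain ⟨x, hx, hxe⟩ := h1
    obtain ⟨w, hw, hwe⟩ : ∃ w ∈ W, x * w = ⟨k, hk⟩ * ⟨g, hPK hg⟩ * ⟨k, hk⟩⁻¹ :=
      ⟨x⁻¹ * _, QuotientGroup.eq.1 hxe, by group⟩
    have hwA : (w : G) ∈ A := Subgroup.mem_map_of_mem _ hw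
    have hcxw : Commute (x : G) (w : G) := hcen _ hx _ hwA
    have hkg : k * g * k⁻¹ = (x : G) * (w : G) := (congrArg Subtype.val hwe).symm
    obtain ⟨e, he⟩ := (PEl.of_mem P.isPGroup' hg).conj k
    obtain ⟨f, hf⟩ := PEl.of_mem P.isPGroup' (show (x : G) ∈ (P : Subgroup G) from hx)
    have hwp : PEl p (w : G) := by
      have h3 : ((x : G) * w) ^ (p ^ (max e f)) = 1 := by
        rw [← hkg, ← orderOf_dvd_iff_pow_eq_one, he]
        exact pow_dvd_pow p (le_max_left _ _)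
      have h4 : (x : G) ^ (p ^ (max e f)) = 1 := by
        rw [← orderOf_dvd_iff_pow_eq_one, hf]
        exact pow_dvd_pow p (le_max_right _ _)
      rw [hcxw.mul_pow, h4, one_mul, ← orderOf_dvd_iff_pow_eq_one] at h3
      obtain ⟨j, -, hj⟩ := (Nat.dvd_prime_pow C.hp).1 h3
      exact ⟨j, hj⟩
    have := eq_one_of_pel_pel C.hp Nat.prime_two C.hp2 hwp (PEl.of_mem hAp hwA)
    rw [hkg, this, mul_one]
    exact hx
  rw [Subgroup.mem_normalizer_iff]
  intro g
  refine ⟨key k hk g, fun h => ?_⟩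
  have := key k⁻¹ (K.inv_mem hk) _ h
  simpa [mul_assoc] using this

/-- A product of two involutions that is not in their commuting case has a nontrivial inverted
`p`-element among its powers. -/
theorem exists_inverted_of_not_commute {t s : G} (ht : orderOf t = 2) (hs : orderOf s = 2)
    (hne : t * s ≠ s * t) :
    ∃ y : G, PEl p y ∧ y ≠ 1 ∧ y ∈ Subgroup.zpowers (t * s) ∧ t * y * t⁻¹ = y⁻¹ ∧ s * y * s⁻¹ = y⁻¹ := by
  have := Fact.mk C.hp
  set g := t * s with hg
  have htt : t * t = 1 := by rw [← pow_two, ← ht, pow_orderOf_eq_one]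
  have hss : s * s = 1 := by rw [← pow_two, ← hs, pow_orderOf_eq_one]
  have hti := C.inv_eq ht
  have hsi := C.inv_eq hs
  have hg1 : t * g * t⁻¹ = g⁻¹ := by
    rw [hg, hti, _root_.mul_inv_rev, hsi, hti, ← mul_assoc, htt, one_mul]
  have hg2 : s * g * s⁻¹ = g⁻¹ := by
    rw [hg, hsi, _root_.mul_inv_rev, hsi, hti, mul_assoc, mul_assoc, hss, mul_one]
  have hpos : orderOf g ≠ 0 := (orderOf_pos g).ne'
  have hfac : orderOf g = p ^ (orderOf g).factorization p * 2 ^ (orderOf g).factorization 2 := by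
    refine Nat.eq_of_factorization_eq hpos (mul_ne_zero (pow_ne_zero _ C.hp.ne_zero) (pow_ne_zero _ two_ne_zero)) fun r => ?_
    rw [Nat.factorization_mul (pow_ne_zero _ C.hp.ne_zero) (pow_ne_zero _ two_ne_zero),
      C.hp.factorization_pow, Nat.prime_two.factorization_pow, Finsupp.add_apply]
    by_cases hr : r.Prime ∧ r ∣ orderOf g
    · rcases C.inverted t g ht hg1 r hr.1 hr.2 with rfl | rfl
      · simp [C.hp2, Ne.symm C.hp2]
      · simp [C.hp2, Ne.symm C.hp2]
    · have h0 : (orderOf g).factorization r = 0 := by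
        by_cases hrp : r.Prime
        · exact Nat.factorization_eq_zero_of_not_dvd fun h => hr ⟨hrp, h⟩
        · exact Nat.factorization_eq_zero_of_not_prime _ hrp
      rw [h0]
      rcases eq_or_ne r p with rfl | hrp
      · simp [h0, C.hp2]
      rcases eq_or_ne r 2 with rfl | hr2
      · simp [h0, hrp]
      simp [Ne.symm hrp, Ne.symm hr2]
  set e := (orderOf g).factorization 2
  set f := (orderOf g).factorization p
  rcases Nat.eq_zero_or_pos f with hf | hf
  · exfalso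
    rw [hf, pow_zero, one_mul] at hfac
    have hgp : IsPGroup 2 ↥(Subgroup.zpowers g) := (show PEl 2 g from ⟨e, hfac⟩).isPGroup
    have hN : Subgroup.zpowers t ≤ Subgroup.normalizer (Subgroup.zpowers g : Set G) := by
      rw [Subgroup.zpowers_le, Subgroup.mem_normalizer_iff]
      intro u
      constructor
      · intro hu
        obtain ⟨i, rfl⟩ := Subgroup.mem_zpowers_iff.1 hu
        rw [← conj_zpow, hg1]
        exact Subgroup.zpow_mem _ (Subgroup.inv_mem _ (Subgroup.mem_zpowers g)) i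
      · intro hu
        obtain ⟨i, hi⟩ := Subgroup.mem_zpowers_iff.1 hu
        have e2 : u = t⁻¹ * g ^ i * t := by rw [hi]; group
        have e3 : t⁻¹ * g ^ i * t = g⁻¹ ^ i := by
          rw [hti, ← hg1, conj_zpow, hti]
        rw [e2, e3]
        exact Subgroup.zpow_mem _ (Subgroup.inv_mem _ (Subgroup.mem_zpowers g)) i
    have h2t : IsPGroup 2 ↥(Subgroup.zpowers t) := (show PEl 2 t from ⟨1, by rw [ht, pow_one]⟩).isPGroup
    have hsup := IsPGroup.to_sup_of_normal_right' h2t hgp hN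
    have hcomm := C.commute_two _ hsup t (Subgroup.mem_sup_left (Subgroup.mem_zpowers t)) g
      (Subgroup.mem_sup_right (Subgroup.mem_zpowers g))
    refine hne ?_
    rw [hg, ← mul_assoc, htt, one_mul] at hcomm
    show t * s = s * t
    calc t * s = t * (t * s * t) := by rw [← hcomm]
      _ = s * t := by rw [← mul_assoc, ← mul_assoc, htt, one_mul]
  refine ⟨g ^ (2 ^ e), ⟨f, ?_⟩, ?_, Subgroup.pow_mem _ (Subgroup.mem_zpowers g) _, ?_, ?_⟩
  · rw [orderOf_pow' _ (pow_ne_zero _ two_ne_zero), hfac, Nat.gcd_mul_left_left,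
      Nat.mul_div_cancel _ (pow_pos two_pos _)]
  · intro h
    have h1 := Nat.le_of_dvd (pow_pos two_pos _) (orderOf_dvd_of_pow_eq_one h)
    rw [hfac] at h1
    have h2 : 1 < p ^ f := Nat.one_lt_pow hf.ne' C.hp.one_lt
    have h3 : 0 < 2 ^ e := pow_pos two_pos _
    nlinarith
  · rw [← conj_pow, hg1, inv_pow]
  · rw [← conj_pow, hg2, inv_pow]

theorem exists_not_commute : ∃ t s : G, orderOf t = 2 ∧ orderOf s = 2 ∧ t * s ≠ s * t := by
  by_contra hcon
  push Not at hcon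
  let W : Subgroup G :=
    { carrier := {g | g * g = 1}
      one_mem' := mul_one 1
      mul_mem' := fun {a b} ha hb => by
        have hab : a * b = b * a := by
          rcases eq_or_ne a 1 with rfl | ha1
          · simp
          rcases eq_or_ne b 1 with rfl | hb1
          · simp
          exact hcon a b (orderOf_eq_prime (by rw [pow_two]; exact ha) ha1)
            (orderOf_eq_prime (by rw [pow_two]; exact hb) hb1)
        show a * b * (a * b) = 1
        rw [mul_assoc, ← mul_assoc b a b, ← hab, mul_assoc a b b, (hb : b * b = 1), mul_one]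
        exact ha
      inv_mem' := fun {a} ha => by
        show a⁻¹ * a⁻¹ = 1
        rw [← _root_.mul_inv_rev, (ha : a * a = 1), inv_one] }
  have hW : W.Normal := Subgroup.Normal.mk fun g hg a => by
    show a * g * a⁻¹ * (a * g * a⁻¹) = 1
    rw [show a * g * a⁻¹ * (a * g * a⁻¹) = a * (g * g) * a⁻¹ by group, (hg : g * g = 1)]
    group
  have h2 : IsPGroup 2 ↥W := fun g => ⟨1, Subtype.ext (by rw [pow_one, pow_two]; exact g.2)⟩
  have := C.no_normal_two W hW h2
  obtain ⟨t, ht⟩ := exists_prime_orderOf_dvd_card' 2 C.two_dvd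
  have htW : t ∈ W := show t * t = 1 by rw [← pow_two, ← ht, pow_orderOf_eq_one]
  rw [this, Subgroup.mem_bot] at htW
  exact C.ne_one ht htW

/-- An involution inverting a nontrivial `p`-element normalizes each Sylow subgroup containing it. -/
theorem mem_normalizer_of_inverts [Fact p.Prime] {t y : G} (ht : orderOf t = 2) (hy : PEl p y)
    (hy1 : y ≠ 1) (hty : t * y * t⁻¹ = y⁻¹) (P : Sylow p G) (hyP : y ∈ (P : Subgroup G)) :
    t ∈ Subgroup.normalizer ((P : Subgroup G) : Set G) ∧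
      ∀ P₂ : Sylow p G, y ∈ (P₂ : Subgroup G) → P₂ = P := by
  set K := Subgroup.normalizer ((Subgroup.zpowers y : Subgroup G) : Set G)
  have hK : K ≠ ⊤ := fun h => hy1 (Subgroup.zpowers_eq_bot.1
    (C.no_normal_p _ (Subgroup.normalizer_eq_top_iff.1 h) hy.isPGroup))
  have hPK : ∀ P₂ : Sylow p G, y ∈ (P₂ : Subgroup G) → (P₂ : Subgroup G) ≤ K := by
    intro P₂ h g hg
    rw [Subgroup.mem_normalizer_iff]
    intro u
    have hc : ∀ v ∈ Subgroup.zpowers y, g * v * g⁻¹ = v := fun v hv => by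
      rw [C.abelian _ P₂.isPGroup' g hg v (Subgroup.zpowers_le.2 h hv), mul_inv_cancel_right]
    refine ⟨fun hu => by rwa [hc u hu], fun hu => ?_⟩
    have : g * u * g⁻¹ = u := mul_left_cancel (mul_right_cancel (hc _ hu))
    rwa [this] at hu
  have hti := C.inv_eq ht
  have htK : t ∈ K := by
    rw [Subgroup.mem_normalizer_iff]
    intro u
    constructor
    · intro hu
      obtain ⟨i, rfl⟩ := Subgroup.mem_zpowers_iff.1 hu
      rw [← conj_zpow, hty]
      exact Subgroup.zpow_mem _ (Subgroup.inv_mem _ (Subgroup.mem_zpowers y)) i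
    · intro hu
      obtain ⟨i, hi⟩ := Subgroup.mem_zpowers_iff.1 hu
      have e2 : u = t * y ^ i * t⁻¹ := by
        have htt : t * t = 1 := by rw [← pow_two, ← ht, pow_orderOf_eq_one]
        rw [hi, hti]
        simp only [← mul_assoc, htt, one_mul]
        rw [mul_assoc, htt, mul_one]
      rw [e2, ← conj_zpow, hty]
      exact Subgroup.zpow_mem _ (Subgroup.inv_mem _ (Subgroup.mem_zpowers y)) i
  rcases C.le_normalizer_cases K hK (C.two_dvd_of_mem ht htK) P (hPK P hyP) with h | ⟨Q, hQ⟩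
  · refine ⟨h htK, fun P₂ h2 => ?_⟩
    exact Sylow.ext (Subgroup.eq_of_le_of_card_ge (le_sylow_of_le_normalizer P P₂.isPGroup' ((hPK P₂ h2).trans h))
      (le_of_eq (P.card_eq_multiplicity.trans P₂.card_eq_multiplicity.symm)))
  · exfalso
    have htQ : t ∈ (Q : Subgroup G) := (show PEl 2 t from ⟨1, by rw [ht, pow_one]⟩).mem_sylow Q (hQ htK)
    have h1 : y * t * y⁻¹ * t⁻¹ ∈ (Q : Subgroup G) :=
      Subgroup.mul_mem _ ((Subgroup.mem_normalizer_iff.1 (hQ (hPK P hyP hyP)) t).1 htQ) (Subgroup.inv_mem _ htQ)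
    rw [show y * t * y⁻¹ * t⁻¹ = y * (t * y * t⁻¹)⁻¹ by group, hty, inv_inv] at h1
    have h2 : PEl p (y * y) := PEl.of_mem hy.isPGroup (Subgroup.mul_mem _ (Subgroup.mem_zpowers y) (Subgroup.mem_zpowers y))
    exact hy1 (C.pel_sq_eq_one hy (eq_one_of_pel_pel C.hp Nat.prime_two C.hp2 h2 (PEl.of_mem Q.isPGroup' h1)))

/-- Every Sylow `p`-subgroup is normalized by an involution. -/
theorem exists_involution_normalizer [Fact p.Prime] (P : Sylow p G) :
    ∃ t : G, orderOf t = 2 ∧ t ∈ Subgroup.normalizer ((P : Subgroup G) : Set G) := by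
  obtain ⟨t, s, ht, hs, hne⟩ := C.exists_not_commute
  obtain ⟨y, hy, hy1, -, hty, -⟩ := C.exists_inverted_of_not_commute ht hs hne
  obtain ⟨P₀, hP₀⟩ := hy.isPGroup.exists_le_sylow
  have htN := (C.mem_normalizer_of_inverts ht hy hy1 hty P₀ (hP₀ (Subgroup.mem_zpowers y))).1
  obtain ⟨g, hg⟩ := MulAction.exists_smul_eq G P₀ P
  refine ⟨g * t * g⁻¹, ?_, ?_⟩
  · rw [← ht]; exact orderOf_injective (MulAut.conj g).toMonoidHom (MulAut.conj g).injective t
  · refine Sylow.smul_eq_iff_mem_normalizer.1 ?_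
    rw [mul_smul, mul_smul, ← hg, inv_smul_smul, Sylow.smul_eq_iff_mem_normalizer.2 htN]

/-- If an involution in the normalizer centralizes no nonidentity element of the abelian `P`,
it inverts `P`. -/
theorem inverts_of_fpf [Fact p.Prime] {u : G} (hu : orderOf u = 2) (P : Sylow p G)
    (huN : u ∈ Subgroup.normalizer ((P : Subgroup G) : Set G))
    (hfpf : ∀ c ∈ (P : Subgroup G), u * c = c * u → c = 1) :
    ∀ c ∈ (P : Subgroup G), u * c * u⁻¹ = c⁻¹ := by
  intro c hc
  have hd : u * c * u⁻¹ ∈ (P : Subgroup G) := (Subgroup.mem_normalizer_iff.1 huN c).1 hc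
  have hcd := C.abelian _ P.isPGroup' c hc _ hd
  have hui := C.inv_eq hu
  have huu : u * u = 1 := by rw [← pow_two, ← hu, pow_orderOf_eq_one]
  have h1 := hfpf (c * (u * c * u⁻¹)) (Subgroup.mul_mem _ hc hd) (by
    conv_rhs => rw [hcd]
    rw [hui]
    simp only [mul_assoc])
  exact eq_inv_of_mul_eq_one_right h1

end Conf

end CfsgLib.FgsSix.MixedOrder
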