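import Mathlib
import Cfsg.Agent.FgsSix.MixedOrder.Conf
import Cfsg.Agent.FgsSix.Windmill

/-!
# The configuration `p = 2 ^ a - 1` does not occur
-/

namespace CfsgLib.FgsSix.MixedOrder

/-- A natural number with a single prime divisor is the corresponding prime power. -/
theorem eq_factorization_pow {n p : ℕ} (hp : p.Prime) (hn : n ≠ 0)
    (h : ∀ r : ℕ, r.Prime → r ∣ n → r = p) : n = p ^ n.factorization p := by
  have e := Nat.eq_prime_pow_of_unique_prime_dvd hn (fun {d} hd hdn => h d hd hdn)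
  generalize n.primeFactorsList.length = k at e
  subst e
  rw [hp.factorization_pow, Finsupp.single_eq_same]

namespace Conf

variable {G : Type*} [Group G] [Finite G] {p : ℕ} [Fact p.Prime] (C : Conf G p)

theorem mem_smul_sylow {q : ℕ} (g : G) (Q : Sylow q G) (v : G) :
    v ∈ ((g • Q : Sylow q G) : Subgroup G) ↔ g⁻¹ * v * g ∈ (Q : Subgroup G) := by
  rw [Sylow.coe_subgroup_smul, Subgroup.mem_pointwise_smul_iff_inv_smul_mem]
  simp [MulAut.smul_def]

include C

theorem sylow_two_eq_of_le {Q Q' : Sylow 2 G}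
    (h : (Q : Subgroup G) ≤ Subgroup.normalizer ((Q' : Subgroup G) : Set G)) : Q = Q' :=
  Sylow.ext (Subgroup.eq_of_le_of_card_ge (le_sylow_of_le_normalizer Q' Q.isPGroup' h)
    (le_of_eq ((C.card_two Q').trans (C.card_two Q).symm)))

theorem exists_mem_sylow_two {t : G} (ht : orderOf t = 2) : ∃ Q : Sylow 2 G, t ∈ (Q : Subgroup G) := by
  obtain ⟨Q, hQ⟩ := C.exists_sylow_two (show PEl 2 t from ⟨1, by rw [ht, pow_one]⟩).isPGroup
  exact ⟨Q, hQ (Subgroup.mem_zpowers t)⟩

theorem orderOf_of_mem_sylow_two {Q : Sylow 2 G} {t : G} (h : t ∈ (Q : Subgroup G)) (h1 : t ≠ 1) :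
    orderOf t = 2 := C.orderOf_two (PEl.of_mem Q.isPGroup' h) h1

theorem exists_common_sylow_two {t s : G} (ht : orderOf t = 2) (hs : orderOf s = 2) (h : t * s = s * t) :
    ∃ Q : Sylow 2 G, t ∈ (Q : Subgroup G) ∧ s ∈ (Q : Subgroup G) := by
  have h1 := (show PEl 2 t from ⟨1, by rw [ht, pow_one]⟩).isPGroup
  have h2 := (show PEl 2 s from ⟨1, by rw [hs, pow_one]⟩).isPGroup
  have hN : Subgroup.zpowers t ≤ Subgroup.normalizer (Subgroup.zpowers s : Set G) :=
    Subgroup.zpowers_le.2 (Subgroup.centralizer_le_normalizer _ (fun x hx => by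
      obtain ⟨i, rfl⟩ := Subgroup.mem_zpowers_iff.1 hx
      exact ((Commute.zpow_left (show Commute s t from h.symm) i)).eq))
  obtain ⟨Q, hQ⟩ := C.exists_sylow_two (IsPGroup.to_sup_of_normal_right' h1 h2 hN)
  exact ⟨Q, hQ (Subgroup.mem_sup_left (Subgroup.mem_zpowers t)),
    hQ (Subgroup.mem_sup_right (Subgroup.mem_zpowers s))⟩

/-- All involutions are conjugate; the conjugating element can carry any Sylow subgroup containing
one of them to one containing the other. -/
theorem exists_conj {t u : G} (ht : orderOf t = 2) (hu : orderOf u = 2) : ∃ g : G, u = g * t * g⁻¹ := by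
  obtain ⟨Q, hQ⟩ := C.exists_mem_sylow_two ht
  obtain ⟨Q', hQ'⟩ := C.exists_mem_sylow_two hu
  obtain ⟨g, rfl⟩ := MulAction.exists_smul_eq G Q Q'
  obtain ⟨x, hx, hxN, hfpf⟩ := C.acts (g • Q)
  have h1 : g * t * g⁻¹ ∈ ((g • Q : Sylow 2 G) : Subgroup G) := by
    rw [mem_smul_sylow]; simpa [mul_assoc] using hQ
  have h2 : g * t * g⁻¹ ≠ 1 := by simpa using C.ne_one ht
  have horb := (transitive_of_card_eq hx hxN (C.card_two _) h1 (hfpf _ h1 h2)).1
  obtain ⟨i, hi⟩ : u ∈ powOrbit x (g * t * g⁻¹) := horb ▸ ⟨hQ', C.ne_one hu⟩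
  exact ⟨x ^ i * g, by rw [hi]; group⟩

/-- The centralizer of a `p`-element centralizing a Sylow 2-subgroup normalizes it. -/
theorem centralizer_le_of_centralizes_sylow {z : G} (hz : PEl p z) (hz1 : z ≠ 1) {Q : Sylow 2 G}
    (hzQ : ∀ v ∈ (Q : Subgroup G), z * v = v * z) :
    Subgroup.centralizer ({z} : Set G) ≤ Subgroup.normalizer ((Q : Subgroup G) : Set G) := by
  set N := Subgroup.normalizer ((Q : Subgroup G) : Set G) with hN
  obtain ⟨x, hx, hxN, hfpf⟩ := C.acts Q
  have hzN : z ∈ N := Subgroup.centralizer_le_normalizer _ (fun v hv => (hzQ v hv).symm)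
  have hzp : PEl p (⟨z, hzN⟩ : ↥N) := by
    obtain ⟨k, hk⟩ := hz; exact ⟨k, by rwa [Subgroup.orderOf_mk]⟩
  have hxp : PEl p (⟨x, hxN⟩ : ↥N) := by
    obtain ⟨k, hk⟩ := hx; exact ⟨k, by rwa [Subgroup.orderOf_mk]⟩
  obtain ⟨S, hS⟩ := hzp.isPGroup.exists_le_sylow
  obtain ⟨T, hT⟩ := hxp.isPGroup.exists_le_sylow
  obtain ⟨g, rfl⟩ := MulAction.exists_smul_eq (↥N) T S
  obtain ⟨P, hP⟩ := ((g • T : Sylow p ↥N).isPGroup'.map N.subtype).exists_le_sylow
  have hx' : ((g * ⟨x, hxN⟩ * g⁻¹ : ↥N) : G) ∈ (P : Subgroup G) := hP ⟨g * ⟨x, hxN⟩ * g⁻¹, by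
    rw [SetLike.mem_coe, mem_smul_sylow]; simpa [mul_assoc] using hT (Subgroup.mem_zpowers _), rfl⟩
  have hzP : z ∈ (P : Subgroup G) := hP ⟨⟨z, hzN⟩, hS (Subgroup.mem_zpowers _), rfl⟩
  have hPK : (P : Subgroup G) ≤ Subgroup.centralizer ({z} : Set G) := fun c hc =>
    Subgroup.mem_centralizer_singleton_iff.2 (C.abelian _ P.isPGroup' c hc z hzP)
  obtain ⟨t, ht⟩ := exists_prime_orderOf_dvd_card' (G := ↥(Q : Subgroup G)) 2
    (C.card_two Q ▸ (C.hp.odd_of_ne_two C.hp2).add_one.two_dvd)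
  rw [← Subgroup.orderOf_coe] at ht
  have htK : (t : G) ∈ Subgroup.centralizer ({z} : Set G) :=
    Subgroup.mem_centralizer_singleton_iff.2 (hzQ t t.2).symm
  rcases C.le_normalizer_cases _ (C.centralizer_ne_top hz1 (Or.inl hz)) (C.two_dvd_of_mem ht htK) P hPK
    with h | ⟨Q', hQ'⟩
  · exfalso
    have hx'N : ((g * ⟨x, hxN⟩ * g⁻¹ : ↥N) : G) ∈ N := SetLike.coe_mem _
    have h1 := C.commute_of_disjoint P.isPGroup' Q.isPGroup' hx' hx'N t.2 (h htK)
    have h2 : ((g : G)⁻¹ * t * g) ∈ (Q : Subgroup G) := (Subgroup.mem_normalizer_iff''.1 g.2 t).1 t.2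
    refine hfpf _ h2 (by
      intro e
      refine C.ne_one ht ?_
      have e2 := congrArg (fun v => (g : G) * v * (g : G)⁻¹) e
      simpa [mul_assoc] using e2) ?_
    have h3 := congrArg (fun v => (g : G)⁻¹ * v * g) h1
    simpa [mul_assoc] using h3
  · have : Q = Q' := C.sylow_two_eq_of_le fun v hv =>
      hQ' (Subgroup.mem_centralizer_singleton_iff.2 (hzQ v hv).symm)
    rw [hN, this]
    exact hQ'

/-- No nontrivial `p`-element centralizes a Sylow 2-subgroup. -/
theorem eq_one_of_centralizes_sylow {z : G} (hz : PEl p z) {Q : Sylow 2 G}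
    (hzQ : ∀ v ∈ (Q : Subgroup G), z * v = v * z) : z = 1 := by
  by_contra hz1
  have star : ∀ u c : G, orderOf u = 2 → PEl p c → u * c = c * u →
      ∃ Q' : Sylow 2 G, u ∈ (Q' : Subgroup G) ∧ ∀ v ∈ (Q' : Subgroup G), c * v = v * c := by
    intro u c hu hc hcu
    obtain ⟨Qu, hQu⟩ := C.exists_mem_sylow_two hu
    obtain ⟨g, hg⟩ := MulAction.exists_smul_eq G Q Qu
    set z' := g * z * g⁻¹ with hz'
    have hz'Q : ∀ v ∈ (Qu : Subgroup G), z' * v = v * z' := by
      intro v hv
      rw [← hg, mem_smul_sylow] at hv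
      have := congrArg (fun w => g * w * g⁻¹) (hzQ _ hv)
      simpa [hz', mul_assoc] using this
    set K := Subgroup.centralizer ({u} : Set G) with hK
    have hz'K : z' ∈ K := Subgroup.mem_centralizer_singleton_iff.2 (hz'Q u hQu)
    have hcK : c ∈ K := Subgroup.mem_centralizer_singleton_iff.2 hcu.symm
    have h1 : PEl p (⟨z', hz'K⟩ : ↥K) := by
      obtain ⟨k, hk⟩ := hz.conj g; exact ⟨k, by rwa [Subgroup.orderOf_mk]⟩
    have h2 : PEl p (⟨c, hcK⟩ : ↥K) := by
      obtain ⟨k, hk⟩ := hc; exact ⟨k, by rwa [Subgroup.orderOf_mk]⟩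
    obtain ⟨S, hS⟩ := h1.isPGroup.exists_le_sylow
    obtain ⟨T, hT⟩ := h2.isPGroup.exists_le_sylow
    obtain ⟨h, rfl⟩ := MulAction.exists_smul_eq (↥K) T S
    have hA := (h • T : Sylow p ↥K).isPGroup'.map K.subtype
    have hc' : ((h * ⟨c, hcK⟩ * h⁻¹ : ↥K) : G) ∈ ((h • T : Sylow p ↥K) : Subgroup ↥K).map K.subtype :=
      Subgroup.mem_map_of_mem (x := h * ⟨c, hcK⟩ * h⁻¹) K.subtype (by rw [mem_smul_sylow]; simpa [mul_assoc] using hT (Subgroup.mem_zpowers _))
    have hcomm := C.abelian _ hA _ hc' z' (Subgroup.mem_map_of_mem K.subtype (hS (Subgroup.mem_zpowers _)))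
    have hcN := C.centralizer_le_of_centralizes_sylow (hz.conj g) (by simpa [hz'] using hz1) hz'Q
      (Subgroup.mem_centralizer_singleton_iff.2 hcomm)
    have hcent := C.centralizes (PEl.of_mem hA hc') hcN hQu (C.ne_one hu)
      (Subgroup.mem_centralizer_singleton_iff.1 (SetLike.coe_mem (h * ⟨c, hcK⟩ * h⁻¹)))
    refine ⟨(h : G)⁻¹ • Qu, ?_, fun v hv => ?_⟩
    · rw [mem_smul_sylow]
      have := Subgroup.mem_centralizer_singleton_iff.1 h.2
      rw [inv_inv, this, mul_inv_cancel_right]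
      exact hQu
    · rw [mem_smul_sylow, inv_inv] at hv
      have := congrArg (fun w => (h : G)⁻¹ * w * h) (hcent _ hv)
      simpa [mul_assoc] using this
  obtain ⟨t, s, ht, hs, hne⟩ := C.exists_not_commute
  obtain ⟨y, hy, hy1, -, hty, -⟩ := C.exists_inverted_of_not_commute ht hs hne
  obtain ⟨P, hP⟩ := hy.isPGroup.exists_le_sylow
  have hyP : y ∈ (P : Subgroup G) := hP (Subgroup.mem_zpowers y)
  have htN := (C.mem_normalizer_of_inverts ht hy hy1 hty P hyP).1
  have htt : PEl 2 t := ⟨1, by rw [ht, pow_one]⟩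
  have hfpf : ∀ c ∈ (P : Subgroup G), t * c = c * t → c = 1 := by
    intro c hc htc
    by_contra hc1
    obtain ⟨Q', htQ', hcQ'⟩ := star t c ht (PEl.of_mem P.isPGroup' hc) htc
    have hle := C.centralizer_le_of_centralizes_sylow (PEl.of_mem P.isPGroup' hc) hc1 hcQ'
    have hyN := hle (Subgroup.mem_centralizer_singleton_iff.2 (C.abelian _ P.isPGroup' y hyP c hc))
    have := C.commute_of_disjoint P.isPGroup' Q'.isPGroup' hyP hyN htQ' htN
    rw [← this, mul_inv_cancel_right] at hty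
    exact hy1 (C.pel_sq_eq_one hy (by nth_rewrite 2 [hty]; exact mul_inv_cancel y))
  have hinv := C.inverts_of_fpf ht P htN hfpf
  obtain ⟨P₀, hP₀⟩ := hz.isPGroup.exists_le_sylow
  obtain ⟨g, rfl⟩ := MulAction.exists_smul_eq G P₀ P
  set z' := g * z * g⁻¹ with hz'
  have hz'P : z' ∈ ((g • P₀ : Sylow p G) : Subgroup G) := by
    rw [mem_smul_sylow]; simpa [hz', mul_assoc] using hP₀ (Subgroup.mem_zpowers z)
  have hz'Q : ∀ v ∈ ((g • Q : Sylow 2 G) : Subgroup G), z' * v = v * z' := by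
    intro v hv
    rw [mem_smul_sylow] at hv
    have := congrArg (fun w => g * w * g⁻¹) (hzQ _ hv)
    simpa [hz', mul_assoc] using this
  have hz'1 : z' ≠ 1 := by simpa [hz'] using hz1
  have hle := C.centralizer_le_of_centralizes_sylow (hz.conj g) hz'1 hz'Q
  -- `t` normalizes the Sylow subgroup centralized by `z'`
  have hQ' : (t • g • Q : Sylow 2 G) = g • Q := by
    refine C.sylow_two_eq_of_le fun v hv => hle (Subgroup.mem_centralizer_singleton_iff.2 ?_)
    rw [mem_smul_sylow] at hv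
    have h1 : Commute z' (t⁻¹ * v * t) := hz'Q _ hv
    have h2 : Commute (t * z' * t⁻¹) v := by
      have := congrArg (fun w => t * w * t⁻¹) h1.eq
      simpa [Commute, SemiconjBy, mul_assoc] using this
    rw [hinv z' hz'P] at h2
    exact (Commute.inv_left_iff.1 h2).eq.symm
  have htQ := htt.mem_sylow (g • Q) (Sylow.smul_eq_iff_mem_normalizer.1 hQ')
  have := hinv z' hz'P
  rw [← hz'Q t htQ, mul_inv_cancel_right] at this
  exact hz'1 (C.pel_sq_eq_one (hz.conj g) (by nth_rewrite 2 [this]; exact mul_inv_cancel z'))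

/-- A nontrivial `p`-element centralized by an involution lies in only one Sylow subgroup, which is
normalized by its centralizer. -/
theorem centralizer_le {z t : G} (hz : PEl p z) (hz1 : z ≠ 1) (ht : orderOf t = 2) (htz : t * z = z * t)
    (P : Sylow p G) (hzP : z ∈ (P : Subgroup G)) :
    Subgroup.centralizer ({z} : Set G) ≤ Subgroup.normalizer ((P : Subgroup G) : Set G) ∧
      ∀ P₂ : Sylow p G, z ∈ (P₂ : Subgroup G) → P₂ = P := by
  have hle : ∀ P₂ : Sylow p G, z ∈ (P₂ : Subgroup G) → (P₂ : Subgroup G) ≤ Subgroup.centralizer ({z} : Set G) :=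
    fun P₂ h c hc => Subgroup.mem_centralizer_singleton_iff.2 (C.abelian _ P₂.isPGroup' c hc z h)
  have htK : t ∈ Subgroup.centralizer ({z} : Set G) := Subgroup.mem_centralizer_singleton_iff.2 htz
  rcases C.le_normalizer_cases _ (C.centralizer_ne_top hz1 (Or.inl hz)) (C.two_dvd_of_mem ht htK) P (hle P hzP)
    with h | ⟨Q, hQ⟩
  · refine ⟨h, fun P₂ h2 => Sylow.ext (Subgroup.eq_of_le_of_card_ge
      (le_sylow_of_le_normalizer P P₂.isPGroup' ((hle P₂ h2).trans h))
      (le_of_eq (P.card_eq_multiplicity.trans P₂.card_eq_multiplicity.symm)))⟩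
  · exfalso
    have htQ := (show PEl 2 t from ⟨1, by rw [ht, pow_one]⟩).mem_sylow Q (hQ htK)
    refine hz1 (C.eq_one_of_centralizes_sylow hz (C.centralizes hz (hQ ?_) htQ (C.ne_one ht) htz.symm))
    exact Subgroup.mem_centralizer_singleton_iff.2 rfl

/-- Elements inverted by an involution have order of the form `p ^ k * 2 ^ l`. -/
theorem pel_of_inverted {u g : G} (hu : orderOf u = 2) (hg : u * g * u⁻¹ = g⁻¹)
    (hodd : ¬ 2 ∣ orderOf g) : PEl p g := by
  refine ⟨(orderOf g).factorization p, ?_⟩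
  have hpos : orderOf g ≠ 0 := (orderOf_pos g).ne'
  refine eq_factorization_pow C.hp hpos ?_
  intro r hr hrd
  rcases C.inverted u g hu hg r hr hrd with rfl | rfl
  · rfl
  · exact absurd hrd hodd

/-- The case in which some involution centralizes a nontrivial `p`-element is impossible. -/
theorem false_of_commuting_pair {t₀ z₀ : G} (ht₀ : orderOf t₀ = 2) (hz₀ : PEl p z₀) (hz₀1 : z₀ ≠ 1)
    (htz₀ : t₀ * z₀ = z₀ * t₀) : False := by
  have hI : ∀ t : G, orderOf t = 2 → ∃ z, PEl p z ∧ z ≠ 1 ∧ t * z = z * t := by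
    intro t ht
    obtain ⟨g, rfl⟩ := C.exists_conj ht₀ ht
    refine ⟨g * z₀ * g⁻¹, hz₀.conj g, by simpa using hz₀1, ?_⟩
    rw [show g * t₀ * g⁻¹ * (g * z₀ * g⁻¹) = g * (t₀ * z₀) * g⁻¹ by group, htz₀]
    group
  have pel_mem : ∀ {t z : G} (P : Sylow p G), orderOf t = 2 → PEl p z → z ≠ 1 → t * z = z * t →
      z ∈ (P : Subgroup G) → ∀ c, PEl p c → t * c = c * t → c ∈ (P : Subgroup G) := by
    intro t z P ht hz hz1 htz hzP c hc htc
    set K := Subgroup.centralizer ({t} : Set G) with hK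
    have hKne : K ≠ ⊤ := C.centralizer_ne_top (C.ne_one ht) (Or.inr ⟨1, by rw [ht, pow_one]⟩)
    obtain ⟨Q, hQ⟩ := C.exists_mem_sylow_two ht
    have hQK : (Q : Subgroup G) ≤ K := fun v hv =>
      Subgroup.mem_centralizer_singleton_iff.2 (C.commute_two _ Q.isPGroup' v hv t hQ)
    set QK : Sylow 2 ↥K := Q.subtype hQK with hQKdef
    have h2K : 2 ∣ Nat.card ↥K := C.two_dvd_of_mem ht (Subgroup.mem_centralizer_singleton_iff.2 rfl)
    have hQKc : IsMulCommutative ↥(QK : Subgroup ↥K) :=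
      ⟨⟨fun a b => Subtype.ext (Subtype.ext (C.commute_two _ Q.isPGroup' _ a.2 _ b.2))⟩⟩
    have hNC : Subgroup.normalizer ((QK : Subgroup ↥K) : Set ↥K) ≤
        Subgroup.centralizer ((QK : Subgroup ↥K) : Set ↥K) := by
      intro k hk
      have hkG : (k : G) ∈ Subgroup.normalizer ((Q : Subgroup G) : Set G) := by
        rw [Subgroup.mem_normalizer_iff]
        intro v
        refine ⟨fun hv => (Subgroup.mem_normalizer_iff.1 hk ⟨v, hQK hv⟩).1 hv, fun hv => ?_⟩
        have := (Subgroup.mem_normalizer_iff''.1 hk ⟨_, hQK hv⟩).1 hv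
        simpa [QK, Subgroup.mem_subgroupOf, mul_assoc] using this
      set e := (orderOf (k : G)).factorization 2
      set f := (orderOf (k : G)).factorization p
      have hfac : (k : G) ^ (2 ^ e) = 1 := by
        have hkp : PEl p ((k : G) ^ (2 ^ e)) := by
          refine ⟨(orderOf ((k : G) ^ (2 ^ e))).factorization p, ?_⟩
          refine eq_factorization_pow (Fact.out : Nat.Prime _) (orderOf_pos _).ne' ?_
          intro r hr hrd
          have hrk : r ∣ Nat.card ↥K := hrd.trans ((Subgroup.orderOf_dvd_natCard K (K.pow_mem k.2 _)))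
          rcases C.proper_two K hKne h2K r hr hrk with rfl | rfl
          · rfl
          · exfalso
            rw [orderOf_pow' _ (pow_ne_zero _ two_ne_zero),
              Nat.gcd_eq_right (Nat.ordProj_dvd _ 2)] at hrd
            exact Nat.not_dvd_ordCompl Nat.prime_two (orderOf_pos _).ne' hrd
        refine C.eq_one_of_centralizes_sylow hkp (C.centralizes hkp (Subgroup.pow_mem _ hkG _) hQ (C.ne_one ht) ?_)
        exact ((show Commute (k : G) t from Subgroup.mem_centralizer_singleton_iff.1 k.2).pow_left _).eq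
      have hk2 : PEl 2 (k : G) := by
        obtain ⟨i, -, hi⟩ := (Nat.dvd_prime_pow Nat.prime_two).1 (orderOf_dvd_of_pow_eq_one hfac)
        exact ⟨i, hi⟩
      have hkQ := hk2.mem_sylow Q hkG
      intro v hv
      exact Subtype.ext (C.commute_two _ Q.isPGroup' _ hv _ hkQ)
    set φ := MonoidHom.transferSylow QK hNC
    have hker : IsPGroup p ↥φ.ker := by
      have hcompl := MonoidHom.ker_transferSylow_isComplement' QK hNC
      have hdvd : Nat.card ↥φ.ker ∣ Nat.card ↥K := Subgroup.card_subgroup_dvd_card _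
      have hcop : ¬ 2 ∣ Nat.card ↥φ.ker := by
        rw [← hcompl.index_eq_card]
        exact QK.not_dvd_index
      refine IsPGroup.of_card (n := (Nat.card ↥φ.ker).factorization p)
        (eq_factorization_pow (Fact.out : Nat.Prime _) Nat.card_pos.ne' fun r hr hrd => ?_)
      rcases C.proper_two K hKne h2K r hr (hrd.trans hdvd) with rfl | rfl
      · rfl
      · exact absurd hrd hcop
    have hmem : ∀ d (hd : d ∈ K), PEl p d → (⟨d, hd⟩ : ↥K) ∈ φ.ker := by
      intro d hd hdp
      obtain ⟨k, hk⟩ := hdp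
      refine MonoidHom.mem_ker.2 (eq_one_of_pel_pel C.hp Nat.prime_two C.hp2 ?_ ?_)
      · obtain ⟨j, -, hj⟩ := (Nat.dvd_prime_pow C.hp).1
          ((orderOf_map_dvd φ (⟨d, hd⟩ : ↥K)).trans (by rw [Subgroup.orderOf_mk, hk]))
        exact ⟨j, hj⟩
      · obtain ⟨j, hj⟩ := IsPGroup.iff_orderOf.1 QK.isPGroup' (φ ⟨d, hd⟩)
        exact ⟨j, hj⟩
    obtain ⟨P₂, hP₂⟩ := (hker.map K.subtype).exists_le_sylow
    have hzK : z ∈ K := Subgroup.mem_centralizer_singleton_iff.2 htz.symm
    have hcK : c ∈ K := Subgroup.mem_centralizer_singleton_iff.2 htc.symm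
    have hz2 : z ∈ (P₂ : Subgroup G) := hP₂ ⟨_, hmem z hzK hz, rfl⟩
    rw [← (C.centralizer_le hz hz1 ht htz P hzP).2 P₂ hz2]
    exact hP₂ ⟨_, hmem c hcK hc, rfl⟩
  have cent_normalizes : ∀ {t z : G} (P : Sylow p G), orderOf t = 2 → PEl p z → z ≠ 1 → t * z = z * t →
      z ∈ (P : Subgroup G) → ∀ g, g * t = t * g →
        g ∈ Subgroup.normalizer ((P : Subgroup G) : Set G) := by
    intro t z P ht hz hz1 htz hzP g hg
    have hgz : t * (g * z * g⁻¹) = g * z * g⁻¹ * t := by
      have h1 : Commute t g := hg.symm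
      exact ((h1.mul_right htz).mul_right h1.inv_right).eq
    have hgP := pel_mem P ht hz hz1 htz hzP _ (hz.conj g) hgz
    refine Sylow.smul_eq_iff_mem_normalizer.1
      ((C.centralizer_le (hz.conj g) (by simpa using hz1) ht hgz P hgP).2 _ ?_)
    rw [mem_smul_sylow]
    simpa [mul_assoc] using hzP
  have fpf : ∀ {t z : G} (P : Sylow p G), orderOf t = 2 → PEl p z → z ≠ 1 → t * z = z * t →
      z ∈ (P : Subgroup G) → ∀ u, orderOf u = 2 → u ≠ t → u * t = t * u →
        (u ∈ Subgroup.normalizer ((P : Subgroup G) : Set G)) ∧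
          ∀ c ∈ (P : Subgroup G), u * c = c * u → c = 1 := by
    intro t z P ht hz hz1 htz hzP u hu hut hutc
    refine ⟨cent_normalizes P ht hz hz1 htz hzP u hutc, fun c hc huc => ?_⟩
    by_contra hc1
    obtain ⟨Q, htQ, huQ⟩ := C.exists_common_sylow_two ht hu hutc.symm
    obtain ⟨x, hx, hxN, hfpf⟩ := C.acts Q
    obtain ⟨i, hi⟩ : u ∈ powOrbit x t := by
      rw [(transitive_of_card_eq hx hxN (C.card_two Q) htQ (hfpf t htQ (C.ne_one ht))).1]
      exact ⟨huQ, C.ne_one hu⟩
    set y := x ^ i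
    have hyN : y ∈ Subgroup.normalizer ((Q : Subgroup G) : Set G) := Subgroup.zpow_mem _ hxN i
    have hy : PEl p y := PEl.of_mem hx.isPGroup (Subgroup.zpow_mem_zpowers x i)
    have hyz : u * (y * z * y⁻¹) = y * z * y⁻¹ * u := by
      rw [hi, show y * t * y⁻¹ * (y * z * y⁻¹) = y * (t * z) * y⁻¹ by group, htz]
      group
    have hcp := PEl.of_mem P.isPGroup' hc
    have hyzP := pel_mem P hu hcp hc1 huc hc _ (hz.conj y) hyz
    have hyPN : y ∈ Subgroup.normalizer ((P : Subgroup G) : Set G) := by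
      refine Sylow.smul_eq_iff_mem_normalizer.1
        ((C.centralizer_le (hz.conj y) (by simpa using hz1) hu hyz P hyzP).2 _ ?_)
      rw [mem_smul_sylow]
      simpa [mul_assoc] using hzP
    have hyP := hy.mem_sylow P hyPN
    have := C.commute_of_disjoint P.isPGroup' Q.isPGroup' hyP hyN htQ
      (cent_normalizes P ht hz hz1 htz hzP t rfl)
    rw [this, mul_inv_cancel_right] at hi
    exact hut hi
  have inv : ∀ {t z : G} (P : Sylow p G), orderOf t = 2 → PEl p z → z ≠ 1 → t * z = z * t →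
      z ∈ (P : Subgroup G) → ∀ u, orderOf u = 2 → u ≠ t → u * t = t * u →
        ∀ c ∈ (P : Subgroup G), u * c * u⁻¹ = c⁻¹ := by
    intro t z P ht hz hz1 htz hzP u hu hut hutc
    obtain ⟨h1, h2⟩ := fpf P ht hz hz1 htz hzP u hu hut hutc
    exact C.inverts_of_fpf hu P h1 h2
  -- three pairwise commuting involutions lie in a four group
  have four : ∀ t u w : G, orderOf t = 2 → orderOf u = 2 → orderOf w = 2 → t * u = u * t → t * w = w * t →
      u * w = w * u → u ≠ t → w ≠ t → w ≠ u → w = t * u := by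
    intro t u w ht hu hw htu htw huw hut hwt hwu
    by_contra hne
    obtain ⟨z, hz, hz1, htz⟩ := hI t ht
    obtain ⟨P, hP⟩ := hz.isPGroup.exists_le_sylow
    have hzP : z ∈ (P : Subgroup G) := hP (Subgroup.mem_zpowers z)
    have h1 := inv P ht hz hz1 htz hzP u hu hut htu.symm z hzP
    have h2 := inv P ht hz hz1 htz hzP w hw hwt htw.symm
    have huu : u * u = 1 := by rw [← pow_two, ← hu, pow_orderOf_eq_one]
    have hww : w * w = 1 := by rw [← pow_two, ← hw, pow_orderOf_eq_one]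
    have hsq : (u * w) * (u * w) = 1 := by
      rw [mul_assoc, ← mul_assoc w u w, ← huw, mul_assoc u w w, hww, mul_one, huu]
    have hne1 : u * w ≠ 1 := fun e => hwu (mul_left_cancel (e.trans huu.symm))
    have huwo : orderOf (u * w) = 2 := orderOf_eq_prime (by rw [pow_two, hsq]) hne1
    have hnt : u * w ≠ t := fun e => hne (by rw [← e, huw, mul_assoc, huu, mul_one])
    have hcomm : (u * w) * t = t * (u * w) := ((Commute.mul_left htu.symm htw.symm : Commute (u * w) t)).eq
    refine hz1 ((fpf P ht hz hz1 htz hzP (u * w) huwo hnt hcomm).2 z hzP ?_)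
    refine mul_inv_eq_iff_eq_mul.1 ?_
    have h3 := h2 z⁻¹ (Subgroup.inv_mem _ hzP)
    have h4 : w * z * w⁻¹ = z⁻¹ := h2 z hzP
    calc u * w * z * (u * w)⁻¹ = u * (w * z * w⁻¹) * u⁻¹ := by group
      _ = (u * z * u⁻¹)⁻¹ := by rw [h4]; group
      _ = z := by rw [h1, inv_inv]
  -- an involution centralizes the whole Sylow subgroup
  have cent : ∀ {t z : G} (P : Sylow p G), orderOf t = 2 → PEl p z → z ≠ 1 → t * z = z * t →
      z ∈ (P : Subgroup G) → ∀ c ∈ (P : Subgroup G), t * c = c * t := by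
    intro t z P ht hz hz1 htz hzP c hc
    obtain ⟨Q, htQ⟩ := C.exists_mem_sylow_two ht
    obtain ⟨x, hx, hxN, hfpf⟩ := C.acts Q
    set u := x * t * x⁻¹ with hu
    have huQ : u ∈ (Q : Subgroup G) := (Subgroup.mem_normalizer_iff.1 hxN t).1 htQ
    have huo : orderOf u = 2 := by
      rw [← ht]; exact orderOf_injective (MulAut.conj x).toMonoidHom (MulAut.conj x).injective t
    have hut : u ≠ t := fun e => hfpf t htQ (C.ne_one ht) (mul_inv_eq_iff_eq_mul.1 e)
    have hcu := C.commute_two _ Q.isPGroup' u huQ t htQ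
    have hvQ : t * u ∈ (Q : Subgroup G) := Subgroup.mul_mem _ htQ huQ
    have hv1 : t * u ≠ 1 := fun e => hut (by
      rw [← mul_left_cancel_iff (a := t), e, ← pow_two, ← ht, pow_orderOf_eq_one])
    have hvo := C.orderOf_of_mem_sylow_two hvQ hv1
    have hvt : t * u ≠ t := fun e => C.ne_one huo (mul_eq_left.1 e)
    have hcv := C.commute_two _ Q.isPGroup' (t * u) hvQ t htQ
    have h1 := inv P ht hz hz1 htz hzP u huo hut hcu
    have h2 := inv P ht hz hz1 htz hzP (t * u) hvo hvt hcv c hc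
    have h3 : t * (u * c * u⁻¹) * t⁻¹ = c⁻¹ := by rw [← h2]; group
    rw [h1 c hc] at h3
    have h4 : t * c * t⁻¹ = c := by
      have := congrArg (·⁻¹) h3
      simpa [mul_assoc] using this
    exact mul_inv_eq_iff_eq_mul.1 h4
  have uniq : ∀ {z : G}, PEl p z → z ≠ 1 → ∀ t w : G, orderOf t = 2 → orderOf w = 2 →
      t * z = z * t → w * z = z * w → w = t := by
    intro z hz hz1 t w ht hw htz hwz
    by_contra hne
    obtain ⟨P, hP⟩ := hz.isPGroup.exists_le_sylow
    have hzP : z ∈ (P : Subgroup G) := hP (Subgroup.mem_zpowers z)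
    by_cases hc : t * w = w * t
    · exact hz1 ((fpf P ht hz hz1 htz hzP w hw hne hc.symm).2 z hzP hwz)
    · obtain ⟨y, hy, hy1, hyz, hty, -⟩ := C.exists_inverted_of_not_commute ht hw hc
      obtain ⟨i, hi⟩ := Subgroup.mem_zpowers_iff.1 hyz
      have hyc : Commute y z := hi ▸ ((Commute.mul_left htz hwz : Commute (t * w) z).zpow_left i)
      have hyP := hy.mem_sylow P ((C.centralizer_le hz hz1 ht htz P hzP).1
        (Subgroup.mem_centralizer_singleton_iff.2 hyc.eq))
      rw [cent P ht hz hz1 htz hzP y hyP, mul_inv_cancel_right] at hty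
      exact hy1 (C.pel_sq_eq_one hy (by nth_rewrite 2 [hty]; exact mul_inv_cancel y))
  have tau : ∀ P : Sylow p G, ∃ w : G, orderOf w = 2 ∧ ∀ c ∈ (P : Subgroup G), w * c = c * w := by
    intro P
    obtain ⟨P₀, hP₀⟩ := hz₀.isPGroup.exists_le_sylow
    have hcent := cent P₀ ht₀ hz₀ hz₀1 htz₀ (hP₀ (Subgroup.mem_zpowers z₀))
    obtain ⟨g, rfl⟩ := MulAction.exists_smul_eq G P₀ P
    refine ⟨g * t₀ * g⁻¹, ?_, fun c hc => ?_⟩
    · rw [← ht₀]; exact orderOf_injective (MulAut.conj g).toMonoidHom (MulAut.conj g).injective t₀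
    · rw [mem_smul_sylow] at hc
      have := congrArg (fun v => g * v * g⁻¹) (hcent _ hc)
      simpa [mul_assoc] using this
  -- the commuting graph of the involutions
  let V := {g : G // orderOf g = 2}
  let r : V → V → Prop := fun a b => a ≠ b ∧ a.1 * b.1 = b.1 * a.1
  have : Nonempty V := ⟨⟨t₀, ht₀⟩⟩
  obtain ⟨P₀, hP₀⟩ := hz₀.isPGroup.exists_le_sylow
  have hz₀P : z₀ ∈ (P₀ : Subgroup G) := hP₀ (Subgroup.mem_zpowers z₀)
  have hconst : ∀ a b : V, Nat.card {w // r a w} = Nat.card {w // r b w} := by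
    intro a b
    obtain ⟨g, hg⟩ := C.exists_conj a.2 b.2
    let e : V ≃ V := Equiv.subtypeEquiv (MulAut.conj g).toEquiv fun x => by
      show orderOf x = 2 ↔ orderOf ((MulAut.conj g).toMonoidHom x) = 2
      rw [orderOf_injective _ (MulAut.conj g).injective]
    have hea : e a = b := Subtype.ext hg.symm
    refine Nat.card_congr (Equiv.subtypeEquiv e fun w => ?_)
    show (a ≠ w ∧ _) ↔ (b ≠ e w ∧ b.1 * (e w).1 = (e w).1 * b.1)
    rw [← hea, e.injective.ne_iff]
    refine and_congr Iff.rfl ?_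
    show a.1 * w.1 = w.1 * a.1 ↔ (MulAut.conj g) a.1 * (MulAut.conj g) w.1 = (MulAut.conj g) w.1 * (MulAut.conj g) a.1
    rw [← map_mul, ← map_mul, (MulAut.conj g).injective.eq_iff]
  refine no_regular_unique_common r (fun a h => h.1 rfl) (fun a b h => ⟨h.1.symm, h.2.symm⟩)
    (Nat.card {w // r ⟨t₀, ht₀⟩ w}) ?_ (fun a => hconst a _) ?_
  · obtain ⟨Q, htQ⟩ := C.exists_mem_sylow_two ht₀
    obtain ⟨x, hx, hxN, hfpf⟩ := C.acts Q
    set u := x * t₀ * x⁻¹ with hu
    have huo : orderOf u = 2 := by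
      rw [← ht₀]; exact orderOf_injective (MulAut.conj x).toMonoidHom (MulAut.conj x).injective t₀
    have hut : u ≠ t₀ := fun e => hfpf t₀ htQ (C.ne_one ht₀) (mul_inv_eq_iff_eq_mul.1 e)
    have hcu := C.commute_two _ Q.isPGroup' u ((Subgroup.mem_normalizer_iff.1 hxN t₀).1 htQ) t₀ htQ
    have hinv := inv P₀ ht₀ hz₀ hz₀1 htz₀ hz₀P u huo hut hcu
    have hcent := cent P₀ ht₀ hz₀ hz₀1 htz₀ hz₀P
    have huu : u * u = 1 := by rw [← pow_two, ← huo, pow_orderOf_eq_one]
    have hmk : ∀ c ∈ (P₀ : Subgroup G), orderOf (u * c) = 2 ∧ u * c ≠ t₀ ∧ t₀ * (u * c) = u * c * t₀ := by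
      intro c hc
      have h1 := hinv c hc
      have hcu1 : u * c = c⁻¹ * u := mul_inv_eq_iff_eq_mul.1 h1
      refine ⟨orderOf_eq_prime (by
        rw [pow_two]; nth_rewrite 2 [hcu1]; rw [mul_assoc, mul_inv_cancel_left, huu]) ?_, ?_, ?_⟩
      · intro e
        rw [mul_eq_one_iff_eq_inv] at e
        exact C.ne_one huo (eq_one_of_pel_pel C.hp Nat.prime_two C.hp2
          (e ▸ PEl.of_mem P₀.isPGroup' (Subgroup.inv_mem _ hc)) ⟨1, by rw [huo, pow_one]⟩)
      · intro e
        have hd : PEl 2 c := by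
          have : c = u * t₀ := by rw [← e, ← mul_assoc, huu, one_mul]
          rw [this]
          exact PEl.of_mem Q.isPGroup' (Subgroup.mul_mem _ ((Subgroup.mem_normalizer_iff.1 hxN t₀).1 htQ) htQ)
        have hc1 := eq_one_of_pel_pel C.hp Nat.prime_two C.hp2 (PEl.of_mem P₀.isPGroup' hc) hd
        exact hut (by rw [← e, hc1, mul_one])
      · exact ((show Commute t₀ u from hcu.symm).mul_right (hcent c hc)).eq
    let F : ↥(P₀ : Subgroup G) → {w // r ⟨t₀, ht₀⟩ w} := fun c =>
      ⟨⟨u * c, (hmk c c.2).1⟩, fun e => (hmk c c.2).2.1 (congrArg Subtype.val e).symm, (hmk c c.2).2.2⟩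
    refine le_trans ?_ (Nat.card_le_card_of_injective F fun a b h =>
      Subtype.ext (mul_left_cancel (congrArg (fun w : {w // r ⟨t₀, ht₀⟩ w} => w.1.1) h)))
    have h1 := P₀.dvd_card_of_dvd_card C.dvd
    have := Nat.le_of_dvd Nat.card_pos h1
    have := C.hp.two_le
    have := C.hp2
    omega
  · rintro ⟨v, hv⟩ ⟨w, hw⟩ hne
    have hne' : v ≠ w := fun e => hne (Subtype.ext e)
    rw [Nat.card_eq_one_iff_unique]
    by_cases hc : v * w = w * v
    · have hvv : v * v = 1 := by rw [← pow_two, ← hv, pow_orderOf_eq_one]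
      have hww : w * w = 1 := by rw [← pow_two, ← hw, pow_orderOf_eq_one]
      have h1 : v * w ≠ 1 := fun e => hne' (mul_left_cancel (hvv.trans e.symm))
      have ho : orderOf (v * w) = 2 := orderOf_eq_prime (by
        rw [pow_two, mul_assoc, ← mul_assoc w v w, ← hc, mul_assoc v w w, hww, mul_one, hvv]) h1
      refine ⟨⟨?_⟩, ⟨⟨⟨v * w, ho⟩, ⟨fun e => C.ne_one hw (mul_eq_left.1 (congrArg Subtype.val e).symm),
        ((Commute.refl v).mul_right hc).eq⟩, ⟨fun e => C.ne_one hv (mul_eq_right.1 (congrArg Subtype.val e)),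
        ((Commute.mul_left hc (Commute.refl w) : Commute (v * w) w)).eq⟩⟩⟩⟩
      rintro ⟨⟨a, ha⟩, ⟨ha1, ha2⟩, ha3, ha4⟩ ⟨⟨b, hb⟩, ⟨hb1, hb2⟩, hb3, hb4⟩
      have ea := four v w a hv hw ha hc ha2 ha4.symm (Ne.symm hne') (fun e => ha1 (Subtype.ext e.symm))
        (fun e => ha3 (Subtype.ext e))
      have eb := four v w b hv hw hb hc hb2 hb4.symm (Ne.symm hne') (fun e => hb1 (Subtype.ext e.symm))
        (fun e => hb3 (Subtype.ext e))
      exact Subtype.ext (Subtype.ext (ea.trans eb.symm))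
    · obtain ⟨y, hy, hy1, hyz, hvy, hwy⟩ := C.exists_inverted_of_not_commute hv hw hc
      obtain ⟨P, hP⟩ := hy.isPGroup.exists_le_sylow
      have hyP : y ∈ (P : Subgroup G) := hP (Subgroup.mem_zpowers y)
      obtain ⟨T, hT, hTc⟩ := tau P
      have hcomm : ∀ a : G, orderOf a = 2 → a * y * a⁻¹ = y⁻¹ → a ≠ T ∧ a * T = T * a := by
        intro a ha hay
        refine ⟨fun e => hy1 (C.pel_sq_eq_one hy ?_), ?_⟩
        · rw [e, hTc y hyP, mul_inv_cancel_right] at hay
          nth_rewrite 2 [hay]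
          exact mul_inv_cancel y
        · have haN := (C.mem_normalizer_of_inverts ha hy hy1 hay P hyP).1
          have hcj : a * T * a⁻¹ * y = y * (a * T * a⁻¹) := by
            have h5 := hTc _ ((Subgroup.mem_normalizer_iff''.1 haN y).1 hyP)
            have := congrArg (fun v => a * v * a⁻¹) h5
            simpa [mul_assoc] using this
          have e := uniq hy hy1 T (a * T * a⁻¹) hT
            (by rw [← hT]; exact orderOf_injective (MulAut.conj a).toMonoidHom (MulAut.conj a).injective T)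
            (hTc y hyP) hcj
          exact mul_inv_eq_iff_eq_mul.1 e
      obtain ⟨hvT, hvT'⟩ := hcomm v hv hvy
      obtain ⟨hwT, hwT'⟩ := hcomm w hw hwy
      refine ⟨⟨?_⟩, ⟨⟨⟨T, hT⟩, ⟨fun e => hvT (congrArg Subtype.val e), hvT'⟩,
        ⟨fun e => hwT (congrArg Subtype.val e).symm, hwT'.symm⟩⟩⟩⟩
      have key : ∀ a : G, orderOf a = 2 → v * a = a * v → a * w = w * a → a = T := by
        intro a ha h1 h2
        obtain ⟨i, hi⟩ := Subgroup.mem_zpowers_iff.1 hyz
        have : Commute a y := hi ▸ ((show Commute a v from h1.symm).mul_right h2).zpow_right i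
        exact uniq hy hy1 T a hT ha (hTc y hyP) this.eq
      rintro ⟨⟨a, ha⟩, ⟨-, ha2⟩, -, ha4⟩ ⟨⟨b, hb⟩, ⟨-, hb2⟩, -, hb4⟩
      exact Subtype.ext (Subtype.ext ((key a ha ha2 ha4).trans (key b hb hb2 hb4).symm))

/-- The case in which no involution centralizes a nontrivial `p`-element is impossible. -/
theorem false_of_no_commuting_pair
    (hII : ∀ t z : G, orderOf t = 2 → PEl p z → t * z = z * t → z = 1) : False := by
  have hcent : ∀ {t : G}, orderOf t = 2 → ∀ Q : Sylow 2 G, t ∈ (Q : Subgroup G) →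
      Subgroup.centralizer ({t} : Set G) = (Q : Subgroup G) := by
    intro t ht Q hQ
    set K := Subgroup.centralizer ({t} : Set G) with hK
    have hKne : K ≠ ⊤ := C.centralizer_ne_top (C.ne_one ht) (Or.inr ⟨1, by rw [ht, pow_one]⟩)
    have h2K : 2 ∣ Nat.card ↥K := C.two_dvd_of_mem ht (Subgroup.mem_centralizer_singleton_iff.2 rfl)
    have hQK : (Q : Subgroup G) ≤ K := fun v hv =>
      Subgroup.mem_centralizer_singleton_iff.2 (C.commute_two _ Q.isPGroup' v hv t hQ)
    have hK2 : IsPGroup 2 ↥K := by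
      refine IsPGroup.of_card (n := (Nat.card ↥K).factorization 2)
        (eq_factorization_pow (Fact.out : Nat.Prime _) Nat.card_pos.ne' fun r hr hrd => ?_)
      rcases C.proper_two K hKne h2K r hr hrd with rfl | rfl
      · exfalso
        obtain ⟨c, hc⟩ := exists_prime_orderOf_dvd_card' (G := ↥K) r hrd
        rw [← Subgroup.orderOf_coe] at hc
        have := hII t c ht ⟨1, by rw [hc, pow_one]⟩ (Subgroup.mem_centralizer_singleton_iff.1 c.2).symm
        rw [this, orderOf_one] at hc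
        exact hr.one_lt.ne hc
      · rfl
    exact Q.is_maximal' hK2 hQK
  have hfpf : ∀ (P : Sylow p G) (u : G), orderOf u = 2 →
      u ∈ Subgroup.normalizer ((P : Subgroup G) : Set G) → ∀ c ∈ (P : Subgroup G), u * c * u⁻¹ = c⁻¹ :=
    fun P u hu hN => C.inverts_of_fpf hu P hN fun c hc h => hII u c hu (PEl.of_mem P.isPGroup' hc) h
  obtain ⟨t, s, ht, hs, -⟩ := C.exists_not_commute
  obtain ⟨Q, htQ⟩ := C.exists_mem_sylow_two ht
  let V := {g : G // orderOf g = 2}
  -- the number of involutions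
  have hn : Nat.card V * (p + 1) = Nat.card G := by
    rw [← C.card_two Q, ← hcent ht Q htQ, ← Subgroup.index_mul_card (Subgroup.centralizer ({t} : Set G))]
    congr 1
    let f : G ⧸ Subgroup.centralizer ({t} : Set G) → V := Quotient.lift
      (fun g => (⟨g * t * g⁻¹, by
        rw [← ht]; exact orderOf_injective (MulAut.conj g).toMonoidHom (MulAut.conj g).injective t⟩ : V))
      (fun a b hab => by
        have h := Subgroup.mem_centralizer_singleton_iff.1 (QuotientGroup.leftRel_apply.1 hab)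
        refine Subtype.ext ?_
        have := congrArg (fun v => a * v * b⁻¹) h
        simpa [mul_assoc] using this.symm)
    refine (Nat.card_congr (Equiv.ofBijective f ⟨?_, ?_⟩)).symm
    · intro a b
      refine Quotient.inductionOn₂' a b fun a b h => ?_
      have h' : a * t * a⁻¹ = b * t * b⁻¹ := congrArg Subtype.val h
      refine Quotient.sound' (QuotientGroup.leftRel_apply.2 (Subgroup.mem_centralizer_singleton_iff.2 ?_))
      have := congrArg (fun v => a⁻¹ * v * b) h'
      simpa [mul_assoc] using this.symm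
    · rintro ⟨u, hu⟩
      obtain ⟨g, rfl⟩ := C.exists_conj ht hu
      exact ⟨Quotient.mk'' g, rfl⟩
  set m := p ^ (Nat.card G).factorization p with hm
  have hPc : ∀ P : Sylow p G, Nat.card ↥(P : Subgroup G) = m := fun P => P.card_eq_multiplicity
  let Φ : G → Type _ := fun u => {P : Sylow p G // u ∈ Subgroup.normalizer ((P : Subgroup G) : Set G)}
  -- involutions outside the centralizer correspond to inverted elements
  let Y := {y : G // PEl p y ∧ y ≠ 1 ∧ t * y * t⁻¹ = y⁻¹}
  have htt : t * t = 1 := by rw [← pow_two, ← ht, pow_orderOf_eq_one]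
  have hti := C.inv_eq ht
  have hVY : Nat.card V = p + Nat.card Y := by
    have h1 : Nat.card {u : V // u.1 ∈ (Q : Subgroup G)} = p := by
      let e : {u : V // u.1 ∈ (Q : Subgroup G)} ≃ {v : ↥(Q : Subgroup G) // v ≠ 1} :=
        { toFun := fun u => ⟨⟨u.1.1, u.2⟩, fun h => C.ne_one u.1.2 (congrArg Subtype.val h)⟩
          invFun := fun v => ⟨⟨v.1.1, C.orderOf_of_mem_sylow_two v.1.2 (fun h => v.2 (Subtype.ext h))⟩, v.1.2⟩
          left_inv := fun u => rfl
          right_inv := fun v => rfl }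
      rw [Nat.card_congr e]
      have := Fintype.ofFinite ↥(Q : Subgroup G)
      classical
      rw [Nat.card_eq_fintype_card, Fintype.card_subtype_compl, Fintype.card_subtype_eq,
        ← Nat.card_eq_fintype_card, C.card_two Q, Nat.add_sub_cancel]
    have h2 : Nat.card {u : V // u.1 ∉ (Q : Subgroup G)} = Nat.card Y := by
      have hmk : ∀ u : G, orderOf u = 2 → u ∉ (Q : Subgroup G) →
          PEl p (t * u) ∧ t * u ≠ 1 ∧ t * (t * u) * t⁻¹ = (t * u)⁻¹ := by
        intro u hu huQ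
        have hinv : t * (t * u) * t⁻¹ = (t * u)⁻¹ := by
          rw [hti, _root_.mul_inv_rev, C.inv_eq hu, hti, ← mul_assoc, htt, one_mul]
        refine ⟨C.pel_of_inverted ht hinv ?_, fun e => huQ ?_, hinv⟩
        · intro h2
          obtain ⟨k, hk⟩ := h2
          set w := (t * u) ^ k
          have hk0 : k ≠ 0 := fun h => (orderOf_pos (t * u)).ne' (by rw [hk, h, mul_zero])
          have hw : orderOf w = 2 := by
            rw [orderOf_pow' _ hk0, hk, Nat.gcd_mul_left_left, Nat.mul_div_cancel _ (Nat.pos_of_ne_zero hk0)]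
          have hwt : w * t = t * w := by
            have : t * w * t⁻¹ = w := by rw [← conj_pow, hinv, inv_pow]; exact C.inv_eq hw
            exact (mul_inv_eq_iff_eq_mul.1 this).symm
          have hwQ : w ∈ (Q : Subgroup G) := hcent ht Q htQ ▸ Subgroup.mem_centralizer_singleton_iff.2 hwt
          refine huQ (hcent hw Q hwQ ▸ Subgroup.mem_centralizer_singleton_iff.2 ?_)
          have h5 : Commute w (t * u) := (Commute.refl (t * u)).pow_left k
          have := (show Commute w t from hwt).inv_right.mul_right h5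
          rw [inv_mul_cancel_left] at this
          exact this.eq.symm
        · rw [show u = t from mul_left_cancel (e.trans htt.symm)]; exact htQ
      have hmk' : ∀ y : G, PEl p y → y ≠ 1 → t * y * t⁻¹ = y⁻¹ → orderOf (t * y) = 2 ∧ t * y ∉ (Q : Subgroup G) := by
        intro y hy hy1 hty
        have hsq : (t * y) * (t * y) = 1 := by
          calc t * y * (t * y) = t * y * t⁻¹ * y := by rw [hti]; group
            _ = 1 := by rw [hty, inv_mul_cancel]
        have hne : t * y ≠ 1 := fun e => hy1 (eq_one_of_pel_pel C.hp Nat.prime_two C.hp2 hy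
          ⟨1, by rw [show y = t⁻¹ from (eq_inv_of_mul_eq_one_right e), orderOf_inv, ht, pow_one]⟩)
        refine ⟨orderOf_eq_prime (by rw [pow_two, hsq]) hne, fun hmem => hy1 ?_⟩
        refine eq_one_of_pel_pel C.hp Nat.prime_two C.hp2 hy ?_
        have := PEl.of_mem Q.isPGroup' (Subgroup.mul_mem _ htQ hmem)
        rwa [← mul_assoc, htt, one_mul] at this
      refine Nat.card_congr
        { toFun := fun u => ⟨t * u.1.1, hmk u.1.1 u.1.2 u.2⟩
          invFun := fun y => ⟨⟨t * y.1, (hmk' y.1 y.2.1 y.2.2.1 y.2.2.2).1⟩, (hmk' y.1 y.2.1 y.2.2.1 y.2.2.2).2⟩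
          left_inv := fun u => Subtype.ext (Subtype.ext (by simp [← mul_assoc, htt]))
          right_inv := fun y => Subtype.ext (by simp [← mul_assoc, htt]) }
    classical
    rw [← h1, ← h2, ← Nat.card_sum]
    exact (Nat.card_congr (Equiv.sumCompl (fun u : V => u.1 ∈ (Q : Subgroup G)))).symm
  -- inverted elements are distributed over the normalized Sylow subgroups
  have hY : Nat.card Y = Nat.card (Φ t) * (m - 1) := by
    let e : (Σ P : Φ t, {c : ↥(P.1 : Subgroup G) // c ≠ 1}) → Y := fun x =>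
      ⟨x.2.1.1, PEl.of_mem x.1.1.isPGroup' x.2.1.2, fun h => x.2.2 (Subtype.ext h),
        hfpf x.1.1 t ht x.1.2 _ x.2.1.2⟩
    have he : Function.Bijective e := by
      constructor
      · rintro ⟨⟨P, hPN⟩, ⟨⟨c, hc⟩, hc1⟩⟩ ⟨⟨P', hP'N⟩, ⟨⟨c', hc'⟩, hc'1⟩⟩ h
        obtain rfl : c = c' := congrArg Subtype.val h
        obtain rfl : P' = P := (C.mem_normalizer_of_inverts ht (PEl.of_mem P.isPGroup' hc)
          (fun e => hc1 (Subtype.ext e)) (hfpf P t ht hPN c hc) P hc).2 P' hc'
        rfl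
      · rintro ⟨y, hy, hy1, hty⟩
        obtain ⟨P, hP⟩ := hy.isPGroup.exists_le_sylow
        have hyP : y ∈ (P : Subgroup G) := hP (Subgroup.mem_zpowers y)
        exact ⟨⟨⟨P, (C.mem_normalizer_of_inverts ht hy hy1 hty P hyP).1⟩,
          ⟨⟨y, hyP⟩, fun h => hy1 (congrArg Subtype.val h)⟩⟩, rfl⟩
    rw [← Nat.card_congr (Equiv.ofBijective e he)]
    have := Fintype.ofFinite (Φ t)
    rw [Nat.card_sigma, Finset.sum_const_nat (m := m - 1) fun P _ => ?_, Finset.card_univ, Nat.card_eq_fintype_card]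
    classical
    have := Fintype.ofFinite ↥(P.1 : Subgroup G)
    rw [Nat.card_eq_fintype_card, Fintype.card_subtype_compl, Fintype.card_subtype_eq,
      ← Nat.card_eq_fintype_card, hPc]
  -- double counting
  have hΦ : Nat.card V * Nat.card (Φ t) = Nat.card (Sylow p G) * m := by
    have hΦu : ∀ u : V, Nat.card (Φ u.1) = Nat.card (Φ t) := by
      rintro ⟨u, hu⟩
      obtain ⟨g, rfl⟩ := C.exists_conj ht hu
      refine (Nat.card_congr (Equiv.subtypeEquiv (MulAction.toPerm g) fun P => ?_)).symm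
      rw [MulAction.toPerm_apply]
      constructor
      · intro h
        refine Sylow.smul_eq_iff_mem_normalizer.1 ?_
        rw [mul_smul, mul_smul, inv_smul_smul, Sylow.smul_eq_iff_mem_normalizer.2 h]
      · intro h
        refine Sylow.smul_eq_iff_mem_normalizer.1 (MulAction.injective g ?_)
        have := Sylow.smul_eq_iff_mem_normalizer.2 h
        rwa [mul_smul, mul_smul, inv_smul_smul] at this
    have hI : ∀ P : Sylow p G,
        Nat.card {u : V // u.1 ∈ Subgroup.normalizer ((P : Subgroup G) : Set G)} = m := by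
      intro P
      obtain ⟨u₀, hu₀, hu₀N⟩ := C.exists_involution_normalizer P
      have hu₀i := hfpf P u₀ hu₀ hu₀N
      have hu₀u : u₀ * u₀ = 1 := by rw [← pow_two, ← hu₀, pow_orderOf_eq_one]
      have hmk : ∀ c ∈ (P : Subgroup G), orderOf (u₀ * c) = 2 := by
        intro c hc
        refine orderOf_eq_prime ?_ ?_
        · rw [pow_two]
          calc u₀ * c * (u₀ * c) = u₀ * c * u₀⁻¹ * c := by rw [C.inv_eq hu₀]; group
            _ = 1 := by rw [hu₀i c hc, inv_mul_cancel]
        · intro e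
          exact C.ne_one hu₀ (eq_one_of_pel_pel C.hp Nat.prime_two C.hp2
            ((eq_inv_of_mul_eq_one_left e) ▸ PEl.of_mem P.isPGroup' (Subgroup.inv_mem _ hc))
            ⟨1, by rw [hu₀, pow_one]⟩)
      have hback : ∀ u, orderOf u = 2 → u ∈ Subgroup.normalizer ((P : Subgroup G) : Set G) →
          u₀ * u ∈ (P : Subgroup G) := by
        intro u hu hN
        have hgc : ∀ c ∈ (P : Subgroup G), Commute (u₀ * u) c := by
          intro c hc
          refine mul_inv_eq_iff_eq_mul.1 ?_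
          calc u₀ * u * c * (u₀ * u)⁻¹ = u₀ * (u * c * u⁻¹) * u₀⁻¹ := by group
            _ = c := by rw [hfpf P u hu hN c hc, hu₀i _ (Subgroup.inv_mem _ hc), inv_inv]
        have hinv : u₀ * (u₀ * u) * u₀⁻¹ = (u₀ * u)⁻¹ := by
          rw [_root_.mul_inv_rev, C.inv_eq hu, C.inv_eq hu₀, ← mul_assoc, hu₀u, one_mul]
        refine (C.pel_of_inverted hu₀ hinv ?_).mem_sylow P
          (Subgroup.mul_mem _ hu₀N hN)
        rintro ⟨k, hk⟩
        have hk0 : k ≠ 0 := fun h => (orderOf_pos (u₀ * u)).ne' (by rw [hk, h, mul_zero])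
        have hw : orderOf ((u₀ * u) ^ k) = 2 := by
          rw [orderOf_pow' _ hk0, hk, Nat.gcd_mul_left_left, Nat.mul_div_cancel _ (Nat.pos_of_ne_zero hk0)]
        obtain ⟨c, hc⟩ := exists_prime_orderOf_dvd_card' (G := ↥(P : Subgroup G)) p (P.dvd_card_of_dvd_card C.dvd)
        rw [← Subgroup.orderOf_coe] at hc
        have := hII _ (c : G) hw ⟨1, by rw [hc, pow_one]⟩ ((hgc c c.2).pow_left k).eq
        rw [this, orderOf_one] at hc
        exact C.hp.one_lt.ne hc
      rw [← hPc P]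
      refine (Nat.card_congr
        { toFun := fun c => ⟨⟨u₀ * c.1, hmk c.1 c.2⟩,
            Subgroup.mul_mem _ hu₀N (Subgroup.le_normalizer c.2)⟩
          invFun := fun u => ⟨u₀ * u.1.1, hback u.1.1 u.1.2 u.2⟩
          left_inv := fun c => Subtype.ext (by simp [← mul_assoc, hu₀u])
          right_inv := fun u => Subtype.ext (Subtype.ext (by simp [← mul_assoc, hu₀u])) }).symm
    have := Fintype.ofFinite V
    have := Fintype.ofFinite (Sylow p G)
    have e : (Σ u : V, Φ u.1) ≃ (Σ P : Sylow p G, {u : V // u.1 ∈ Subgroup.normalizer ((P : Subgroup G) : Set G)}) :=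
      { toFun := fun x => ⟨x.2.1, ⟨x.1, x.2.2⟩⟩
        invFun := fun x => ⟨x.2.1, ⟨x.1, x.2.2⟩⟩
        left_inv := fun x => rfl
        right_inv := fun x => rfl }
    have h := Nat.card_congr e
    rwa [Nat.card_sigma, Nat.card_sigma, Finset.sum_const_nat (m := Nat.card (Φ t)) fun u _ => hΦu u,
      Finset.sum_const_nat (m := m) fun P _ => hI P, Finset.card_univ, Finset.card_univ,
      ← Nat.card_eq_fintype_card, ← Nat.card_eq_fintype_card] at h
  have hv : 0 < (Nat.card G).factorization p := C.hp.factorization_pos_of_dvd Nat.card_pos.ne' C.dvd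
  have hmn : m ∣ Nat.card V := by
    have hcop : (p + 1).Coprime m := (Nat.coprime_self_add_left.2 (Nat.coprime_one_left p)).pow_right _
    refine (hcop.symm).dvd_of_dvd_mul_right (hn ▸ Nat.ordProj_dvd _ p)
  obtain ⟨M, hM⟩ := hmn
  have hS : ¬ p ∣ Nat.card (Sylow p G) := not_dvd_card_sylow p G
  have hΦp : ¬ p ∣ Nat.card (Φ t) := by
    intro h
    refine hS (h.trans ⟨M, ?_⟩)
    rw [hM, mul_comm m M, mul_assoc, mul_comm m, ← mul_assoc] at hΦ
    rw [mul_comm (Nat.card (Φ t)) M]
    exact (Nat.eq_of_mul_eq_mul_right (pow_pos C.hp.pos _) hΦ).symm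
  have hpm : p ∣ m := dvd_pow_self p hv.ne'
  have h3 : p ∣ Nat.card Y := (Nat.dvd_add_right dvd_rfl).1 (hVY ▸ (hpm.trans ⟨M, hM⟩))
  rw [hY] at h3
  rcases C.hp.dvd_mul.1 h3 with h | h
  · exact hΦp h
  · have hm1 : 1 ≤ m := pow_pos C.hp.pos _
    have := (Nat.dvd_sub hpm h)
    rw [Nat.sub_sub_self hm1] at this
    exact C.hp.not_dvd_one this

/-- The configuration does not occur. -/
theorem false : False := by
  by_cases h : ∀ t z : G, orderOf t = 2 → PEl p z → t * z = z * t → z = 1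
  · exact C.false_of_no_commuting_pair h
  · push Not at h
    obtain ⟨t, z, ht, hz, htz, hz1⟩ := h
    exact C.false_of_commuting_pair ht hz hz1 htz

end Conf

end CfsgLib.FgsSix.MixedOrder
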