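import Mathlib
import Cfsg.Agent.FgsSix.MixedOrder.Main
import Cfsg.Agent.Transfer.Frobenius

/-!
# Groups in which `p` divides the orders of the mixed proper subgroups
-/

namespace CfsgLib.FgsSix.MixedOrder

universe u

/-- `p` divides the order of every proper subgroup which is neither a `q`-group nor of order
prime to `q`. -/
def Mix (p q : ℕ) (G : Type*) [Group G] : Prop :=
  ∀ H : Subgroup G, H ≠ ⊤ → ¬ IsPGroup q ↥H → q ∣ Nat.card ↥H → p ∣ Nat.card ↥H

/-- `p` is large compared with the `q`-part of the group order. -/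
def Large (p q : ℕ) (G : Type*) [Group G] : Prop :=
  q ^ (Nat.card G).factorization q - 1 < p ∨
    (p = q ^ (Nat.card G).factorization q - 1 ∧
      ∀ A : Subgroup G, IsPGroup p ↥A → ∀ a ∈ A, ∀ b ∈ A, a * b = b * a)

theorem Large.of_injective {p q : ℕ} {G : Type*} [Group G] [Finite G] {H : Type*} [Group H] [Finite H]
    (hq : q.Prime) (h : Large p q G) (f : H →* G) (hf : Function.Injective f) : Large p q H := by
  have hle : (Nat.card H).factorization q ≤ (Nat.card G).factorization q :=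
    (Nat.factorization_le_iff_dvd Nat.card_pos.ne' Nat.card_pos.ne').2 (Subgroup.card_dvd_of_injective f hf) q
  have hpow : q ^ (Nat.card H).factorization q ≤ q ^ (Nat.card G).factorization q :=
    Nat.pow_le_pow_right hq.pos hle
  rcases h with h | ⟨h1, h2⟩
  · exact Or.inl (lt_of_le_of_lt (Nat.sub_le_sub_right hpow 1) h)
  · rcases hpow.lt_or_eq with hlt | he
    · left
      have : 0 < q ^ (Nat.card H).factorization q := pow_pos hq.pos _
      omega
    · refine Or.inr ⟨he ▸ h1, fun A hA a ha b hb => hf ?_⟩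
      rw [map_mul, map_mul]
      exact h2 (A.map f) (hA.map f) _ (Subgroup.mem_map_of_mem f ha) _ (Subgroup.mem_map_of_mem f hb)

/-- Under `Mix` and `Large`, only `p` and `q` divide the order of the group. -/
theorem eq_or_eq_of_dvd {p q : ℕ} (hp : p.Prime) (hq : q.Prime) (hpq : p ≠ q) (hp2 : p ≠ 2) (n : ℕ) :
    ∀ (G : Type u) [Group G] [Finite G], Nat.card G = n → p ∣ Nat.card G → q ∣ Nat.card G → Mix p q G →
      Large p q G → ∀ r : ℕ, r.Prime → r ∣ Nat.card G → r = p ∨ r = q := by
  have := Fact.mk hp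
  have := Fact.mk hq
  induction n using Nat.strong_induction_on with
  | _ n ih =>
  intro G _ _ hn hpG hqG hmix hlarge r hr hrG
  by_contra hcon
  push Not at hcon
  obtain ⟨hrp, hrq⟩ := hcon
  have := Fact.mk hr
  -- proper mixed subgroups involve only the two primes
  have proper : ∀ H : Subgroup G, H ≠ ⊤ → q ∣ Nat.card ↥H →
      ∀ s : ℕ, s.Prime → s ∣ Nat.card ↥H → s = p ∨ s = q := by
    intro H hH hqH s hs hsH
    by_cases hHq : IsPGroup q ↥H
    · obtain ⟨k, hk⟩ := IsPGroup.iff_card.1 hHq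
      exact Or.inr ((Nat.prime_dvd_prime_iff_eq hs hq).1 (hs.dvd_of_dvd_pow (hk ▸ hsH)))
    · have hlt : Nat.card ↥H < n := by
        rw [← hn]
        exact lt_of_le_of_ne (Subgroup.card_le_card_group H) fun e => hH ((Subgroup.card_eq_iff_eq_top H).1 e)
      refine ih _ hlt ↥H rfl (hmix H hH hHq hqH) hqH ?_ (hlarge.of_injective hq H.subtype H.subtype_injective) s hs hsH
      intro K hK hKq hqK
      have hc : Nat.card ↥(K.map H.subtype) = Nat.card ↥K := Subgroup.card_subtype H K
      rw [← hc] at hqK ⊢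
      refine hmix _ (fun e => hH ?_) (fun hmap => hKq ?_) hqK
      · exact top_le_iff.1 (e ▸ Subgroup.map_subtype_le K)
      · exact hmap.of_equiv (K.equivMapOfInjective _ H.subtype_injective).symm
  -- no mixed subgroup of order prime to p
  have noMixed : ∀ R Q₀ : Subgroup G, ∀ s : ℕ, s.Prime → s ≠ p → s ≠ q → IsPGroup s ↥R → R ≠ ⊥ →
      IsPGroup q ↥Q₀ → Q₀ ≠ ⊥ → (Q₀ ≤ Subgroup.normalizer (R : Set G) ∨ R ≤ Subgroup.normalizer (Q₀ : Set G)) → False := by
    intro R Q₀ s hs hsp hsq hR hR1 hQ hQ1 hN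
    have := Fact.mk hs
    obtain ⟨i, hi⟩ := IsPGroup.iff_card.1 hR
    obtain ⟨j, hj⟩ := IsPGroup.iff_card.1 hQ
    have hd : Nat.card ↥(R ⊔ Q₀) ∣ s ^ i * q ^ j := by
      rw [← hi, ← hj]
      rcases hN with h | h
      · rw [sup_comm, mul_comm]; exact card_sup_dvd h
      · exact card_sup_dvd h
    have hnp : ¬ p ∣ Nat.card ↥(R ⊔ Q₀) := fun h => by
      rcases hp.dvd_mul.1 (h.trans hd) with h' | h'
      · exact hsp ((Nat.prime_dvd_prime_iff_eq hp hs).1 (hp.dvd_of_dvd_pow h')).symm
      · exact hpq ((Nat.prime_dvd_prime_iff_eq hp hq).1 (hp.dvd_of_dvd_pow h'))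
    have hne : R ⊔ Q₀ ≠ ⊤ := fun e => hnp (by rw [e, Subgroup.card_top]; exact hpG)
    have hsd : s ∣ Nat.card ↥(R ⊔ Q₀) := by
      have := Subgroup.card_dvd_of_le (le_sup_left : R ≤ R ⊔ Q₀)
      exact (hi ▸ dvd_pow_self s (fun h => hR1 (Subgroup.card_eq_one.1 (by rw [hi, h, pow_zero])))).trans this
    have hqd : q ∣ Nat.card ↥(R ⊔ Q₀) := by
      have := Subgroup.card_dvd_of_le (le_sup_right : Q₀ ≤ R ⊔ Q₀)
      exact (hj ▸ dvd_pow_self q (fun h => hQ1 (Subgroup.card_eq_one.1 (by rw [hj, h, pow_zero])))).trans this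
    rcases proper _ hne hqd s hs hsd with h | h
    · exact hsp h
    · exact hsq h
  by_cases hA : ∀ Q₀ : Subgroup G, IsPGroup q ↥Q₀ → ∀ x : G, PEl p x →
      x ∈ Subgroup.normalizer (Q₀ : Set G) → ∀ a ∈ Q₀, x * a = a * x
  · -- normal q-complement
    obtain ⟨Q, N, hNn, hNQ⟩ := CfsgLib.Transfer.hasNormalPComplement_of_local (p := q)
      (default : Sylow q G) (fun Q₀ hQ₀ g hg hgq => by
        intro a ha
        rcases eq_or_ne Q₀ ⊥ with rfl | hne
        · rw [SetLike.mem_coe, Subgroup.mem_bot] at ha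
          simp [ha]
        have hQp : IsPGroup q ↥Q₀ := (default : Sylow q G).isPGroup'.to_le hQ₀
        refine (hA Q₀ hQp g ?_ hg a ha).symm
        refine ⟨(orderOf g).factorization p, eq_factorization_pow hp (orderOf_pos g).ne' fun s hs hsd => ?_⟩
        by_contra hsp
        have hsq : s ≠ q := fun e => hq.one_lt.ne' (Nat.eq_one_of_dvd_coprimes hgq (e ▸ hsd) dvd_rfl)
        obtain ⟨c, hc⟩ := hsd
        have hgc : orderOf (g ^ c) = s := by
          have hc0 : c ≠ 0 := fun h => (orderOf_pos g).ne' (by rw [hc, h, mul_zero])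
          rw [orderOf_pow' _ hc0, hc, Nat.gcd_mul_left_left, Nat.mul_div_cancel _ (Nat.pos_of_ne_zero hc0)]
        refine noMixed (Subgroup.zpowers (g ^ c)) Q₀ s hs hsp hsq
          (have := Fact.mk hs; (show PEl s (g ^ c) from ⟨1, by rw [hgc, pow_one]⟩).isPGroup) ?_ hQp hne
          (Or.inr (Subgroup.zpowers_le.2 (Subgroup.pow_mem _ hg c)))
        intro h
        rw [Subgroup.zpowers_eq_bot] at h
        rw [h, orderOf_one] at hgc
        exact hs.one_lt.ne hgc)
    have hqN : ¬ q ∣ Nat.card ↥N := hNQ.index_eq_card ▸ Q.not_dvd_index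
    have hrN : r ∣ Nat.card ↥N := by
      obtain ⟨k, hk⟩ := IsPGroup.iff_card.1 Q.isPGroup'
      have h := hNQ.card_mul
      rw [hk] at h
      rcases hr.dvd_mul.1 (h ▸ hrG) with h' | h'
      · exact h'
      · exact absurd ((Nat.prime_dvd_prime_iff_eq hr hq).1 (hr.dvd_of_dvd_pow h')) hrq
    obtain ⟨R⟩ : Nonempty (Sylow r ↥N) := inferInstance
    set R' := (R : Subgroup ↥N).map N.subtype with hR'
    have htop := R.normalizer_sup_eq_top
    have hqM : q ∣ Nat.card ↥(Subgroup.normalizer (R' : Set G)) := by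
      have h := CfsgLib.PLocal.card_sup_dvd_mul (Subgroup.normalizer (R' : Set G)) N
      rw [htop, Subgroup.card_top] at h
      exact (hq.dvd_mul.1 (hqG.trans h)).resolve_right hqN
    obtain ⟨y, hy⟩ := exists_prime_orderOf_dvd_card' q hqM
    rw [← Subgroup.orderOf_coe] at hy
    refine noMixed R' (Subgroup.zpowers (y : G)) r hr hrp hrq (R.isPGroup'.map _) ?_
      (show PEl q (y : G) from ⟨1, by rw [hy, pow_one]⟩).isPGroup ?_ (Or.inl (Subgroup.zpowers_le.2 y.2))
    · intro h
      rw [hR', Subgroup.map_eq_bot_iff, Subgroup.ker_subtype, le_bot_iff] at h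
      have := R.dvd_card_of_dvd_card hrN
      rw [h, Subgroup.card_bot] at this
      exact hr.not_dvd_one this
    · intro h
      rw [Subgroup.zpowers_eq_bot] at h
      rw [h, orderOf_one] at hy
      exact hq.one_lt.ne hy
  push Not at hA
  obtain ⟨Q₀, hQ₀, x, hx, hxN, a₀, ha₀, hxa₀⟩ := hA
  have hgt : p < Nat.card ↥Q₀ := by
    by_contra hle
    exact hxa₀ (commute_of_card_le hx hxN (not_lt.1 hle) ha₀)
  have hQle : Nat.card ↥Q₀ ≤ q ^ (Nat.card G).factorization q := by
    obtain ⟨j, hj⟩ := IsPGroup.iff_card.1 hQ₀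
    rw [hj]
    exact Nat.pow_le_pow_right hq.pos ((hq.pow_dvd_iff_le_factorization Nat.card_pos.ne').1
      (hj ▸ Subgroup.card_subgroup_dvd_card Q₀))
  obtain ⟨hpeq, hab⟩ : p = q ^ (Nat.card G).factorization q - 1 ∧
      ∀ A : Subgroup G, IsPGroup p ↥A → ∀ a ∈ A, ∀ b ∈ A, a * b = b * a := by
    rcases hlarge with h | h
    · omega
    · exact h
  have hQc : Nat.card ↥Q₀ = p + 1 := by omega
  have hqpart : q ^ (Nat.card G).factorization q = p + 1 := by omega
  obtain rfl : q = 2 := by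
    have h2 : 2 ∣ q ^ (Nat.card G).factorization q := hqpart ▸ (hp.odd_of_ne_two hp2).add_one.two_dvd
    exact ((Nat.prime_dvd_prime_iff_eq Nat.prime_two hq).1 (Nat.prime_two.dvd_of_dvd_pow h2)).symm
  obtain ⟨horb, hfpf⟩ := transitive_of_card_eq hx hxN hQc ha₀ hxa₀
  let Q : Sylow 2 G := Sylow.ofCard Q₀ (by rw [hQc, hqpart])
  have hsqQ : ∀ a ∈ Q₀, a * a = 1 := by
    have ha1 : a₀ ≠ 1 := fun h => hxa₀ (by simp [h])
    have hsame : ∀ a ∈ Q₀, a ≠ 1 → orderOf a = orderOf a₀ := by
      intro a ha ha1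
      obtain ⟨i, hi⟩ : a ∈ powOrbit x a₀ := horb ▸ ⟨ha, ha1⟩
      rw [hi]
      exact orderOf_injective (MulAut.conj (x ^ i)).toMonoidHom (MulAut.conj (x ^ i)).injective a₀
    obtain ⟨t, ht⟩ := exists_prime_orderOf_dvd_card' (G := ↥Q₀) 2 (hQc ▸ (hp.odd_of_ne_two hp2).add_one.two_dvd)
    rw [← Subgroup.orderOf_coe] at ht
    have ht1 : (t : G) ≠ 1 := fun h => by rw [h, orderOf_one] at ht; omega
    intro a ha
    rcases eq_or_ne a 1 with rfl | h
    · simp
    · rw [← pow_two, ← (hsame a ha h).trans ((hsame t t.2 ht1).symm.trans ht), pow_orderOf_eq_one]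
  have hsqA : ∀ A : Subgroup G, IsPGroup 2 ↥A → ∀ a ∈ A, a * a = 1 := by
    intro A hA a ha
    obtain ⟨T, hT⟩ := hA.exists_le_sylow
    obtain ⟨g, rfl⟩ := MulAction.exists_smul_eq G Q T
    have h1 : g⁻¹ * a * g ∈ Q₀ := (Conf.mem_smul_sylow g Q a).1 (hT ha)
    have h2 := hsqQ _ h1
    have := congrArg (fun v => g * v * g⁻¹) h2
    simpa [mul_assoc] using this
  refine Conf.false (G := G) (p := p)
    { hp := hp
      hp2 := hp2
      dvd := hpG
      two_dvd := hqG
      proper_two := proper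
      inverted := ?_
      abelian := hab
      no_normal_p := ?_
      no_normal_two := ?_
      card_two := fun T => by rw [T.card_eq_multiplicity, hqpart]
      commute_two := ?_
      sq_two := fun a ha => hsqA _ ha.isPGroup a (Subgroup.mem_zpowers a)
      centralize_small := ?_
      acts := ?_ }
  · intro t g ht hg s hs hsd
    by_contra hcon
    push Not at hcon
    obtain ⟨c, hc⟩ := hsd
    have := Fact.mk hs
    have hc0 : c ≠ 0 := fun h => (orderOf_pos g).ne' (by rw [hc, h, mul_zero])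
    have hgc : orderOf (g ^ c) = s := by
      rw [orderOf_pow' _ hc0, hc, Nat.gcd_mul_left_left, Nat.mul_div_cancel _ (Nat.pos_of_ne_zero hc0)]
    have hne : Subgroup.zpowers (g ^ c) ≠ ⊥ := by
      intro h
      rw [Subgroup.zpowers_eq_bot] at h
      rw [h, orderOf_one] at hgc
      exact hs.one_lt.ne hgc
    refine noMixed (Subgroup.zpowers (g ^ c)) (Subgroup.zpowers t) s hs hcon.1 hcon.2
      (show PEl s (g ^ c) from ⟨1, by rw [hgc, pow_one]⟩).isPGroup hne
      (show PEl 2 t from ⟨1, by rw [ht, pow_one]⟩).isPGroup ?_ (Or.inl ?_)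
    · intro h
      rw [Subgroup.zpowers_eq_bot] at h
      rw [h, orderOf_one] at ht
      omega
    · rw [Subgroup.zpowers_le]
      have key : ∀ u ∈ Subgroup.zpowers (g ^ c), t * u * t⁻¹ ∈ Subgroup.zpowers (g ^ c) := by
        intro u hu
        obtain ⟨i, rfl⟩ := Subgroup.mem_zpowers_iff.1 hu
        rw [← conj_zpow, ← conj_pow, hg, inv_pow]
        exact Subgroup.zpow_mem _ (Subgroup.inv_mem _ (Subgroup.mem_zpowers _)) i
      rw [Subgroup.mem_normalizer_iff]
      refine fun u => ⟨key u, fun hu => ?_⟩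
      have htt : t * t = 1 := by rw [← pow_two, ← ht, pow_orderOf_eq_one]
      have hti : t⁻¹ = t := inv_eq_of_mul_eq_one_right htt
      have h1 := key _ hu
      rw [hti] at h1
      simp only [← mul_assoc, htt, one_mul] at h1
      rwa [mul_assoc, htt, mul_one] at h1
  · -- no normal p-subgroup
    intro W hWn hW
    by_contra hW1
    obtain ⟨i, hi⟩ := IsPGroup.iff_card.1 hW
    have hi0 : i ≠ 0 := fun h => hW1 (Subgroup.card_eq_one.1 (by rw [hi, h, pow_zero]))
    have hqW : ¬ 2 ∣ Nat.card ↥W := fun h =>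
      hpq ((Nat.prime_dvd_prime_iff_eq Nat.prime_two hp).1 (Nat.prime_two.dvd_of_dvd_pow (hi ▸ h))).symm
    have hrW : ¬ r ∣ Nat.card ↥W := fun h =>
      hrp ((Nat.prime_dvd_prime_iff_eq hr hp).1 (hr.dvd_of_dvd_pow (hi ▸ h)))
    have hcard := Subgroup.card_eq_card_quotient_mul_card_subgroup W
    have h2Q : 2 ∣ Nat.card (G ⧸ W) := (Nat.prime_two.dvd_mul.1 (hcard ▸ hqG)).resolve_right hqW
    have hrQ : r ∣ Nat.card (G ⧸ W) := (hr.dvd_mul.1 (hcard ▸ hrG)).resolve_right hrW
    have key : ∀ H : Subgroup (G ⧸ W), H ≠ ⊤ → 2 ∣ Nat.card ↥H →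
        ∀ s : ℕ, s.Prime → s ∣ Nat.card ↥H → s = p ∨ s = 2 := by
      intro H hH h2 s hs hsd
      have hd : Nat.card ↥H ∣ Nat.card ↥(H.comap (QuotientGroup.mk' W)) :=
        Subgroup.card_dvd_of_surjective ((QuotientGroup.mk' W).subgroupComap H)
          ((QuotientGroup.mk' W).subgroupComap_surjective_of_surjective H (QuotientGroup.mk'_surjective W))
      refine proper _ (fun e => hH ?_) (h2.trans hd) s hs (hsd.trans hd)
      rw [← Subgroup.map_comap_eq_self_of_surjective (QuotientGroup.mk'_surjective W) H, e,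
        Subgroup.map_top_of_surjective _ (QuotientGroup.mk'_surjective W)]
    by_cases hpQ : p ∣ Nat.card (G ⧸ W)
    · have hlt : Nat.card (G ⧸ W) < n := by
        rw [← hn, hcard]
        exact lt_mul_of_one_lt_right Nat.card_pos ((Subgroup.one_lt_card_iff_ne_bot W).2 hW1)
      have hv : (Nat.card (G ⧸ W)).factorization 2 = (Nat.card G).factorization 2 := by
        rw [hcard, Nat.factorization_mul Nat.card_pos.ne' Nat.card_pos.ne', Finsupp.add_apply,
          Nat.factorization_eq_zero_of_not_dvd hqW, add_zero]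
      refine (ih _ hlt (G ⧸ W) rfl hpQ h2Q ?_ ?_ r hr hrQ).elim hrp hrq
      · intro H hH hH2 h2
        by_contra hpH
        apply hH2
        refine IsPGroup.of_card (n := (Nat.card ↥H).factorization 2)
          (eq_factorization_pow Nat.prime_two Nat.card_pos.ne' fun s hs hsd => ?_)
        rcases key H hH h2 s hs hsd with rfl | h
        · exact absurd hsd hpH
        · exact h
      · refine Or.inr ⟨by rw [hv]; omega, fun A hA a ha b hb => ?_⟩
        obtain ⟨S, hS⟩ := hA.exists_le_sylow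
        obtain ⟨T, rfl⟩ := Sylow.mapSurjective_surjective (QuotientGroup.mk'_surjective W) p S
        have ha' := hS ha
        have hb' := hS hb
        rw [Sylow.coe_mapSurjective] at ha' hb'
        obtain ⟨a', ha'', rfl⟩ := ha'
        obtain ⟨b', hb'', rfl⟩ := hb'
        rw [← map_mul, ← map_mul, hab _ T.isPGroup' a' ha'' b' hb'']
    · have hcop : (Nat.card ↥W).Coprime W.index := by
        rw [hi]
        exact Nat.Coprime.pow_left _ (hp.coprime_iff_not_dvd.2 hpQ)
      obtain ⟨K, hK⟩ := Subgroup.exists_right_complement'_of_coprime hcop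
      have hKc : Nat.card ↥K = Nat.card (G ⧸ W) := hK.symm.index_eq_card.symm
      refine (proper K ?_ (hKc ▸ h2Q) r hr (hKc ▸ hrQ)).elim hrp hrq
      · intro e
        have h3 := hK.card_mul
        rw [e, Subgroup.card_top] at h3
        have : Nat.card ↥W = 1 := by
          have hpos : 0 < Nat.card G := Nat.card_pos
          exact Nat.eq_of_mul_eq_mul_right hpos (by rw [h3, one_mul])
        exact hW1 (Subgroup.card_eq_one.1 this)
  · intro W hWn hW
    by_contra hW1
    obtain ⟨R⟩ : Nonempty (Sylow r G) := inferInstance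
    refine noMixed (R : Subgroup G) W r hr hrp hrq R.isPGroup' (fun h => ?_) hW hW1
      (Or.inr (by rw [Subgroup.normalizer_eq_top_iff.2 hWn]; exact le_top))
    have := R.dvd_card_of_dvd_card hrG
    rw [h, Subgroup.card_bot] at this
    exact hr.not_dvd_one this
  · intro A hA a ha b hb
    have ha2 := hsqA A hA a ha
    have hb2 := hsqA A hA b hb
    have hab2 := hsqA A hA _ (A.mul_mem ha hb)
    calc a * b = a⁻¹ * (a * a) * b := by group
      _ = a⁻¹ * b⁻¹ * (b * b) := by rw [ha2]; group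
      _ = (b * a)⁻¹ := by rw [hb2]; group
      _ = b * a := by
        refine inv_eq_of_mul_eq_one_right ?_
        exact hsqA A hA _ (A.mul_mem hb ha)
  · intro A hA hne y hy hyN a ha
    refine commute_of_card_le hy hyN ?_ ha
    obtain ⟨j, hj⟩ := IsPGroup.iff_card.1 hA
    have hle := Nat.pow_le_pow_right (show 0 < 2 by omega)
      ((Nat.prime_two.pow_dvd_iff_le_factorization Nat.card_pos.ne').1 (hj ▸ Subgroup.card_subgroup_dvd_card A))
    omega
  · intro T
    obtain ⟨g, rfl⟩ := MulAction.exists_smul_eq G Q T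
    refine ⟨g * x * g⁻¹, hx.conj g, ?_, fun t ht ht1 h => ?_⟩
    · refine Sylow.smul_eq_iff_mem_normalizer.1 ?_
      have hxQ : x • Q = Q := Sylow.smul_eq_iff_mem_normalizer.2 hxN
      rw [mul_smul, mul_smul, inv_smul_smul, hxQ]
    · rw [Conf.mem_smul_sylow] at ht
      refine hfpf _ ht (fun e => ht1 ?_) ?_
      · have := congrArg (fun v => g * v * g⁻¹) e
        simpa [mul_assoc] using this
      · have := congrArg (fun v => g⁻¹ * v * g) h
        simpa [mul_assoc] using this

end CfsgLib.FgsSix.MixedOrder
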